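import Groth.Agent.AGFQuot23.NeutralSub
import Groth.Agent.AGFQuot23.FixedPoint
import Groth.Agent.AGFQuot23.Proper
import Groth.Agent.AlgGrpLib.ComponentQuot
import Groth.Agent.S3027
import Groth.Agent.S0115

/-! Rational points of smooth connected groups, not necessarily affine, lie in Borel subgroups. -/

set_option linter.style.haveILetI false
set_option autoImplicit false
set_option backward.isDefEq.respectTransparency.types false
set_option maxHeartbeats 1000000
set_option synthInstance.maxHeartbeats 400000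

universe u

open CategoryTheory CategoryTheory.Limits MonoidalCategory CartesianMonoidalCategory MonObj GrpObj AlgebraicGeometry

noncomputable section

namespace Groth.Agent.ConjConst26.BorelMem

open AGFQuot23
open Groth.Agent.AlgGrpLib (ptOf)

variable {k : Type u} [Field k] [IsAlgClosed k] {G : Over (Spec (CommRingCat.of k))} [GrpObj G]

theorem mono_of_cl {A C : Over (Spec (CommRingCat.of k))} (j : A ⟶ C) [IsClosedImmersion j.left] : Mono j :=
  Over.mono_of_mono_left j

/-- An affine smooth connected quotient with connected central kernel. -/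
theorem exists_affine_quotient [Smooth G.hom] [QuasiCompact G.hom] [ConnectedSpace G.left] :
    ∃ (W : Over (Spec (CommRingCat.of k))) (_ : GrpObj W) (p : G ⟶ W) (K : Over (Spec (CommRingCat.of k)))
      (_ : GrpObj K) (v : K ⟶ G), IsMonHom p ∧ IsAffine W.left ∧ Smooth W.hom ∧ ConnectedSpace W.left ∧
        Flat p.left ∧ Surjective p.left ∧ IsMonHom v ∧ ConnectedSpace K.left ∧ AlgGrp.IsKernel v p ∧
        ∀ (X : Over (Spec (CommRingCat.of k))) (a : X ⟶ K) (g : X ⟶ G), (a ≫ v) * g = g * (a ≫ v) := by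
  obtain ⟨Z, _, z, hz, -, hzc, Q, _, q, hq, hQa, hQft, hqf, hqs, hker⟩ := Groth.Agent.S3027.result k G
  haveI := hz; haveI := hq; haveI := hQa; haveI := hQft; haveI := hqf; haveI := hqs
  obtain ⟨K, _, v, W, _, p, r, hv, hp, hK, hpf, hps, hkp, hr, hpr, hsm⟩ :=
    AlgGrpLib.ComponentQuot.exists_componentQuot q z hker
  haveI := hr; haveI := hps
  haveI : IsAffine W.left := isAffine_of_isAffineHom r.left
  refine ⟨W, inferInstance, p, K, inferInstance, v, hp, inferInstance, hsm inferInstance,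
    p.left.surjective.connectedSpace p.left.continuous, hpf, hps, hv, hK, hkp, fun X a g => ?_⟩
  obtain ⟨y, hy, -⟩ := hker.exists_lift (a ≫ v) (toUnit X) (by
    have h1 : v ≫ p = 1 := AlgGrpLib.kernel_comp hkp
    rw [Category.assoc, ← hpr, reassoc_of% h1, Hom.one_def, Category.assoc, ← IsMonHom.one_hom p, Category.assoc, hpr,
      IsMonHom.one_hom q]
    simp [Hom.one_def])
  have h := (hzc X _).1 ⟨y, hy⟩ X (𝟙 X) g
  rwa [Category.id_comp] at h

theorem mem_borel [Smooth G.hom] [QuasiCompact G.hom] [ConnectedSpace G.left]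
    (g : 𝟙_ (Over (Spec (CommRingCat.of k))) ⟶ G) :
    ∃ (B : Over (Spec (CommRingCat.of k))) (_ : GrpObj B) (b : B ⟶ G), Red.IsBorelOver k b ∧
      ∃ g' : 𝟙_ (Over (Spec (CommRingCat.of k))) ⟶ B, g' ≫ b = g := by
  obtain ⟨W, _, p, K, _, v, hp, hWa, hWs, hWc, hpf, hps, hv, hKc, hker, hcen⟩ := exists_affine_quotient (G := G)
  haveI := hp; haveI := hWa; haveI := hWs; haveI := hWc; haveI := hpf; haveI := hps; haveI := hKc; haveI := hv
  haveI : QuasiCompact W.hom := (quasiCompact_iff_compactSpace W.hom).2 inferInstance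
  -- a Borel subgroup of `W` through the image of `g`
  obtain ⟨B₀, _, j₀, hB₀⟩ := exists_isBorelOver k W
  obtain ⟨x, b₀, hxb⟩ := exists_conj_mem_borel hB₀ (g ≫ p)
  let j : B₀ ⟶ W := j₀ ≫ cj x⁻¹
  have hB : Red.IsBorelOver k j := isBorelOver_comp_cj hB₀ _
  have hgB : b₀ ≫ j = g ≫ p := by
    show b₀ ≫ j₀ ≫ cj x⁻¹ = _
    rw [← Category.assoc, comp_cj, ← hxb, cst, toUnit_unique (toUnit _) (𝟙 _), Category.id_comp, _root_.inv_inv]
  obtain ⟨hj, hjcl, hjsm, hjc, ⟨n, hn⟩, hjmax⟩ := id hB
  haveI := hj; haveI := hjcl; haveI := hjsm; haveI := hjc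
  haveI : Mono j := mono_of_cl j
  -- the reduced inverse image
  let H : Subgroup (𝟙_ (Over (Spec (CommRingCat.of k))) ⟶ G) :=
    { carrier := {y | ∃ b : 𝟙_ (Over (Spec (CommRingCat.of k))) ⟶ B₀, b ≫ j = y ≫ p}
      one_mem' := ⟨1, by rw [MonObj.one_comp, MonObj.one_comp]⟩
      mul_mem' := fun {y y'} ⟨b, hb⟩ ⟨b', hb'⟩ => ⟨b * b', by rw [MonObj.mul_comp, hb, hb', MonObj.mul_comp]⟩
      inv_mem' := fun {y} ⟨b, hb⟩ => ⟨b⁻¹, by rw [GrpObj.inv_comp, hb, GrpObj.inv_comp]⟩ }
  obtain ⟨B, _, i, hi, hicl, hired, hrange, hlift⟩ := AlgGrpLib.exists_closure_subgroup G H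
  haveI := hi; haveI := hicl
  haveI : Mono i := mono_of_cl i
  haveI : LocallyOfFiniteType B.hom := by rw [← Over.w i]; infer_instance
  haveI : QuasiCompact B.hom := by rw [← Over.w i]; infer_instance
  haveI : GeometricallyReduced B.hom := hired
  haveI : Smooth B.hom := AbVarLib.smooth_of_geometricallyReduced B
  haveI : IsReduced B.left := AbSchLib.isReduced_of_smooth B.hom
  haveI : Subsingleton ↥(Spec (CommRingCat.of k)) := inferInstanceAs (Subsingleton (PrimeSpectrum k))
  -- it maps to `B₀`, with kernel `K`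
  have hsub : Set.range (i ≫ p).left ⊆ Set.range j.left := by
    rintro _ ⟨y, rfl⟩
    have hy : i.left y ∈ closure (ptOf '' (H : Set _)) := hrange ▸ ⟨y, rfl⟩
    have hcl : IsClosed (p.left ⁻¹' Set.range j.left) := j.left.isClosedEmbedding.isClosed_range.preimage p.left.continuous
    refine (closure_minimal ?_ hcl) hy
    rintro _ ⟨y', ⟨b, hb⟩, rfl⟩
    exact ⟨ptOf b, congrArg (fun r : _ ⟶ W => ptOf r) hb⟩
  obtain ⟨l, hl⟩ := RedSepLib.exists_lift_of_range_subset (i ≫ p).left j.left hsub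
  let w : B ⟶ B₀ := Over.homMk l (by rw [← Over.w j, ← Category.assoc, hl, Over.w (i ≫ p)])
  have hw : w ≫ j = i ≫ p := Over.OverMorphism.ext hl
  haveI : IsMonHom w :=
    { one_hom := by rw [← cancel_mono j, Category.assoc, hw, IsMonHom.one_hom j, reassoc_of% (IsMonHom.one_hom i), IsMonHom.one_hom p]
      mul_hom := by
        rw [← cancel_mono j, Category.assoc, hw, Category.assoc, IsMonHom.mul_hom j, tensorHom_comp_tensorHom_assoc, hw,
          IsMonHom.mul_hom (i ≫ p)] }
  have hpts : ∀ y : 𝟙_ (Over (Spec (CommRingCat.of k))) ⟶ G, y ∈ H → ∃ y' : 𝟙_ _ ⟶ B, y' ≫ i = y := hlift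
  -- solvable
  haveI : LocallyOfFiniteType B₀.hom := by rw [← Over.w j]; infer_instance
  haveI : Group.IsSolvable (𝟙_ (Over (Spec (CommRingCat.of k))) ⟶ B₀) := ⟨⟨n, hn _⟩⟩
  let f : (𝟙_ (Over (Spec (CommRingCat.of k))) ⟶ B) →* (𝟙_ (Over (Spec (CommRingCat.of k))) ⟶ B₀) :=
    MonoidHom.mk' (fun y => y ≫ w) fun y y' => MonObj.mul_comp y y' w
  haveI : Group.IsSolvable f.ker := by
    refine isSolvable_of_comm fun a c => Subtype.ext (by
      have ha : (a.1 ≫ i) ≫ p = 1 := by
        have h := a.2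
        rw [MonoidHom.mem_ker] at h
        rw [Category.assoc, ← hw, ← Category.assoc, show a.1 ≫ w = 1 from h, MonObj.one_comp]
      obtain ⟨a', ha', -⟩ := hker.exists_lift (a.1 ≫ i) (toUnit _) (by rw [ha, Hom.one_def])
      show a.1 * c.1 = c.1 * a.1
      rw [← cancel_mono i, MonObj.mul_comp, MonObj.mul_comp, ← ha']
      exact hcen _ a' (c.1 ≫ i))
  haveI : Group.IsSolvable (𝟙_ (Over (Spec (CommRingCat.of k))) ⟶ B) :=
    solvable_of_ker_le_range f.ker.subtype f (by rw [Subgroup.range_subtype])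
  have hBsol := isSolvableGrp_of_points B
  -- connected: the full inverse image is connected
  have hKpre : Set.range i.left = p.left ⁻¹' Set.range j.left := by
    refine Set.Subset.antisymm ?_ ?_
    · rintro _ ⟨y, rfl⟩; exact hsub ⟨y, rfl⟩
    · haveI : JacobsonSpace G.left := LocallyOfFiniteType.jacobsonSpace G.hom
      intro y hy
      refine AGFQuot23.subset_of_forall_point (Z := G) (j.left.isClosedEmbedding.isClosed_range.preimage
        p.left.continuous).isLocallyClosed i.left.isClosedEmbedding.isClosed_range (fun y' hy' => ?_) hy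
      obtain ⟨b, hb⟩ := hy'
      haveI : LocallyOfFiniteType (𝟙_ (Over (Spec (CommRingCat.of k)))).hom :=
        inferInstanceAs (LocallyOfFiniteType (𝟙 (Spec (CommRingCat.of k))))
      haveI : IsReduced (𝟙_ (Over (Spec (CommRingCat.of k)))).left :=
        inferInstanceAs (IsReduced (Spec (CommRingCat.of k)))
      obtain ⟨c, hc⟩ := AGFQuot23.exists_lift_of_points (y' ≫ p) j (fun x => ⟨b, by
        rw [show x = 𝟙 _ from (toUnit_unique x _).trans (toUnit_unique (toUnit _) _), Category.id_comp]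
        exact hb⟩)
      obtain ⟨y'', hy''⟩ := hpts y' ⟨c, hc⟩
      exact ⟨ptOf y'', congrArg (fun r : _ ⟶ G => ptOf r) hy''⟩
  haveI : ConnectedSpace B.left := by
    have hcop : IsOpenMap p.left := by
      haveI := AlgGrpLib.ExactSeqBasics.locallyOfFinitePresentation_left p
      exact p.left.isOpenMap
    have hc : Topology.IsCoinducing p.left :=
      (hcop.isQuotientMap p.left.continuous p.left.surjective).isCoinducing
    have h := hc.isConnected_preimage_of_isClosed (fun y => by
      obtain ⟨a, rfl⟩ := p.left.surjective y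
      exact AlgGrpLib.ExactSeqBasics.isConnected_preimage p v hker a) j.left.isClosedEmbedding.isClosed_range
      (isConnected_range j.left.continuous)
    rw [← hKpre] at h
    rw [connectedSpace_iff_univ]
    refine ⟨?_, ?_⟩
    · obtain ⟨_, y, rfl⟩ := h.nonempty
      exact ⟨y, trivial⟩
    · rw [← i.left.isClosedEmbedding.isInducing.isPreconnected_image, Set.image_univ]
      exact h.isPreconnected
  obtain ⟨g', hg'⟩ := hpts g ⟨b₀, hgB⟩
  refine ⟨B, inferInstance, i, ⟨hi, hicl, inferInstance, inferInstance, hBsol,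
    fun B' _ i' _ e hcl' hsm' hconn' hsol' he => ?_⟩, g', hg'⟩
  -- maximal
  haveI := hcl'; haveI := hsm'; haveI := hconn'
  haveI : QuasiCompact B'.hom := by rw [← Over.w i']; infer_instance
  obtain ⟨M, _, iM, p', hiM, hp', hclM, hpM, hsp, -, hsmM, hLM, hqM⟩ := AlgGrpLib.ImageSubgroup.exists_image (i' ≫ p)
  haveI := hiM; haveI := hp'; haveI := hclM; haveI := hsp; haveI := hsmM; haveI := hLM; haveI := hqM
  haveI : Mono iM := mono_of_cl iM
  haveI : ConnectedSpace M.left := p'.left.surjective.connectedSpace p'.left.continuous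
  haveI : Group.IsSolvable (𝟙_ (Over (Spec (CommRingCat.of k))) ⟶ B') := by
    obtain ⟨n', hn'⟩ := hsol'
    exact ⟨⟨n', hn' _⟩⟩
  haveI : Group.IsSolvable (𝟙_ (Over (Spec (CommRingCat.of k))) ⟶ M) :=
    solvable_of_surjective (f := MonoidHom.mk' (fun b => b ≫ p') fun b b' => MonObj.mul_comp b b' p')
      fun m => exists_ratPoint_lift p' m
  -- `j` factors through `iM`
  haveI : IsReduced B₀.left := AbSchLib.isReduced_of_smooth B₀.hom
  obtain ⟨d, hd⟩ := AGFQuot23.exists_lift_of_points j iM (fun b => by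
    obtain ⟨y, hy⟩ := exists_ratPoint_lift p (b ≫ j)
    obtain ⟨y', hy'⟩ := hpts y ⟨b, hy.symm⟩
    refine ⟨ptOf (y' ≫ e ≫ p'), congrArg (fun r : _ ⟶ W => ptOf r) (?_ : (y' ≫ e ≫ p') ≫ iM = b ≫ j)⟩
    rw [Category.assoc, Category.assoc, hpM, ← Category.assoc e, he, ← Category.assoc, hy', hy])
  haveI : IsIso d := hjmax M iM d inferInstance inferInstance inferInstance (isSolvableGrp_of_points M) hd
  haveI : IsReduced B'.left := AbSchLib.isReduced_of_smooth B'.hom
  haveI : LocallyOfFiniteType B'.hom := by rw [← Over.w i']; infer_instance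
  obtain ⟨e', he'⟩ := AGFQuot23.exists_lift_of_points i' i (fun b => by
    obtain ⟨y', hy'⟩ := hpts (b ≫ i') ⟨b ≫ p' ≫ inv d, by
      rw [← hd]; simp only [Category.assoc, IsIso.inv_hom_id_assoc, hpM]⟩
    exact ⟨ptOf y', congrArg (fun r : _ ⟶ G => ptOf r) hy'⟩)
  haveI : Mono i' := mono_of_cl i'
  refine ⟨e', ?_, ?_⟩
  · rw [← cancel_mono i, Category.assoc, he', he, Category.id_comp]
  · rw [← cancel_mono i', Category.assoc, he, he', Category.id_comp]

end Groth.Agent.ConjConst26.BorelMem
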