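import Groth.Agent.ConjConst26.Transporter
import Groth.Agent.MaxTorus26.Basic
import Groth.Agent.HMTor29.MaxTorus
import Groth.Agent.AGFQuot23.Proper
import Groth.Agent.TorusConnLib.Connected
import Groth.Agent.SGA3cLib.CentralDescent
import Groth.Agent.S3027
import Groth.Agent.SGA3xLib.SepFibre
import Groth.Agent.S0115
import Groth.Agent.S7520
import Mathlib.AlgebraicGeometry.Morphisms.FlatMono
import Groth.Prelude.Def_SGA3x

/-! Conjugacy of maximal tori in smooth connected groups, not necessarily affine, over algebraically closed fields. -/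

set_option linter.style.haveILetI false
set_option autoImplicit false
set_option backward.isDefEq.respectTransparency.types false

universe u

open CategoryTheory CategoryTheory.Limits MonoidalCategory CartesianMonoidalCategory MonObj GrpObj AlgebraicGeometry

noncomputable section

namespace Groth.Agent.ConjConst26

open SGA3cLib AGFQuot23

variable {k : Type u} [Field k] {G : Over (Spec (CommRingCat.of k))} [GrpObj G]

theorem cj_hom {Q : Over (Spec (CommRingCat.of k))} [GrpObj Q] (q : G ⟶ Q) [IsMonHom q]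
    (g : 𝟙_ (Over (Spec (CommRingCat.of k))) ⟶ G) : cj g ≫ q = q ≫ cj (g ≫ q) := by
  rw [comp_cj]
  simp only [cj, cst, MonObj.mul_comp, GrpObj.inv_comp, Category.assoc, Category.id_comp]

theorem isMaximalTorus_comp_aut {S : Scheme.{u}} {T G : Over S} [GrpObj T] [GrpObj G] {i : T ⟶ G}
    (hi : Red.IsMaximalTorus i) (a : G ⟶ G) [IsMonHom a] [IsIso a] : Red.IsMaximalTorus (i ≫ a) := by
  obtain ⟨hh, hm, ht, hmax⟩ := hi
  haveI := hh
  haveI := hm
  refine ⟨inferInstance, inferInstance, ht, fun s T' _ j _ _ f hT' hfj => ?_⟩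
  haveI : IsMonHom (inv a) := inferInstanceAs (IsMonHom (asIso a).inv)
  let b : Red.geomFibre s G ⟶ Red.geomFibre s G := (Over.pullback (Red.geomPt s)).map (inv a)
  haveI : IsMonHom b := inferInstanceAs (IsMonHom ((Over.pullback (Red.geomPt s)).map (inv a)))
  haveI : IsIso b := inferInstanceAs (IsIso ((Over.pullback (Red.geomPt s)).map (inv a)))
  exact hmax s T' (j ≫ b) f hT' (by
    rw [← Category.assoc, hfj, ← Functor.map_comp, Category.assoc, IsIso.hom_inv_id, Category.comp_id])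

/-- Two homomorphisms out of tori with commuting images modulo the centre commute. -/
theorem commute_of_central_commutator [IsSeparated G.hom] [LocallyOfFiniteType G.hom]
    {T₁ T₂ : Over (Spec (CommRingCat.of k))} [GrpObj T₁] [GrpObj T₂] (h₁ : Red.IsTorus T₁) (h₂ : Red.IsTorus T₂)
    [ConnectedSpace T₁.left] (i₁ : T₁ ⟶ G) (i₂ : T₂ ⟶ G) [IsMonHom i₁] [IsMonHom i₂]
    (hc : ∀ (X : Over (Spec (CommRingCat.of k))) (t : X ⟶ T₁) (r : X ⟶ T₂) (g : X ⟶ G),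
      ((t ≫ i₁) * (r ≫ i₂) * (t ≫ i₁)⁻¹ * (r ≫ i₂)⁻¹) * g = g * ((t ≫ i₁) * (r ≫ i₂) * (t ≫ i₁)⁻¹ * (r ≫ i₂)⁻¹))
    {X : Over (Spec (CommRingCat.of k))} (t : X ⟶ T₁) (r : X ⟶ T₂) :
    (t ≫ i₁) * (r ≫ i₂) = (r ≫ i₂) * (t ≫ i₁) := by
  let c : T₁ ⊗ T₂ ⟶ G := (fst T₁ T₂ ≫ i₁) * (snd T₁ T₂ ≫ i₂) * (fst T₁ T₂ ≫ i₁)⁻¹ * (snd T₁ T₂ ≫ i₂)⁻¹
  have hcl : ∀ {X : Over (Spec (CommRingCat.of k))} (t : X ⟶ T₁) (r : X ⟶ T₂),
      lift t r ≫ c = (t ≫ i₁) * (r ≫ i₂) * (t ≫ i₁)⁻¹ * (r ≫ i₂)⁻¹ := fun t r => by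
    simp only [c, MonObj.comp_mul, GrpObj.comp_inv, lift_fst_assoc, lift_snd_assoc]
  have hfam : IsFam c := fun X t r r' => by
    simp only [hcl, MonObj.mul_comp]
    have h := hc X t r' (r ≫ i₂)⁻¹
    have h2 := hc X t r' ((t ≫ i₁) * (r ≫ i₂) * (t ≫ i₁)⁻¹ * (r ≫ i₂)⁻¹)
    rw [← h2]
    rw [_root_.mul_inv_rev]
    calc (t ≫ i₁) * ((r ≫ i₂) * (r' ≫ i₂)) * (t ≫ i₁)⁻¹ * ((r' ≫ i₂)⁻¹ * (r ≫ i₂)⁻¹)
        = (t ≫ i₁) * (r ≫ i₂) * (t ≫ i₁)⁻¹ *
            (((t ≫ i₁) * (r' ≫ i₂) * (t ≫ i₁)⁻¹ * (r' ≫ i₂)⁻¹) * (r ≫ i₂)⁻¹) := by group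
      _ = (t ≫ i₁) * (r ≫ i₂) * (t ≫ i₁)⁻¹ *
            ((r ≫ i₂)⁻¹ * ((t ≫ i₁) * (r' ≫ i₂) * (t ≫ i₁)⁻¹ * (r' ≫ i₂)⁻¹)) := by rw [h]
      _ = _ := by
        rw [h2]
        group
  haveI := isMonHom_famHom hfam
  haveI : IsSeparated (Red.bc T₁.hom G).hom := MorphismProperty.pullback_snd (P := @IsSeparated) _ _ inferInstance
  haveI : LocallyOfFiniteType (Red.bc T₁.hom G).hom :=
    MorphismProperty.pullback_snd (P := @LocallyOfFiniteType) _ _ inferInstance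
  obtain ⟨U, hUc, hU, htriv⟩ := TrivLocus.exists_clopen (famHom c) (Or.inr inferInstance)
    (CentralDescent.isMultTypeFT_bc T₁.hom T₂ (MultExt26.isMultTypeFT_of_torus T₂ h₂))
  let e : 𝟙_ (Over (Spec (CommRingCat.of k))) ⟶ T₁ := 1
  have hω : TrivLocus.Triv (famHom c) e.left := by
    intro Y p y
    obtain ⟨y, rfl⟩ := (BCPoints.pt T₁.hom T₂ Y).surjective y
    rw [pt_famHom]
    have hstr : str T₁ Y = (1 : _ ⟶ T₁) := by
      have h1 : str T₁ (Over.mk e.left) = toUnit _ ≫ e := by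
        ext
        show e.left = (e.left ≫ T₁.hom) ≫ e.left
        rw [Over.w e]
        exact (Category.id_comp _).symm
      rw [← map_str p, h1, ← Category.assoc, comp_toUnit]
      exact MonObj.comp_one _
    rw [hstr, hcl, MonObj.one_comp, _root_.one_mul, inv_one, _root_.mul_one, mul_inv_cancel]
    exact map_one (MonoidHom.mk' (BCPoints.pt T₁.hom G Y) (BCPoints.pt_mul T₁.hom))
  let x₀ : Spec (CommRingCat.of k) := IsLocalRing.closedPoint k
  have hmem : e.left.base x₀ ∈ U := (hU _).2 ((TrivLocus.triv_field (famHom c) e.left x₀).1 hω)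
  have htop : (U : Set T₁.left) = Set.univ := IsClopen.eq_univ ⟨hUc, U.isOpen⟩ ⟨_, hmem⟩
  have hall : ∀ (Z : Over (Spec (CommRingCat.of k))) (p : Z ⟶ T₁) (y : Z ⟶ T₂), lift p y ≫ c = 1 := by
    intro Z p
    refine elim_pt (P := fun Z p => ∀ y : Z ⟶ T₂, lift p y ≫ c = 1) (fun Y y => ?_) Z p
    apply (BCPoints.pt T₁.hom G Y).injective
    rw [← pt_famHom]
    refine (htriv Y (Over.homMk (IsOpenImmersion.lift U.ι Y.hom (by
        rw [Scheme.Opens.range_ι, htop]; exact Set.subset_univ _)) (IsOpenImmersion.lift_fac _ _ _)) _).trans ?_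
    exact (map_one (MonoidHom.mk' (BCPoints.pt T₁.hom G Y) (BCPoints.pt_mul T₁.hom))).symm
  have h := hall X t r
  rw [hcl, mul_inv_eq_one, mul_inv_eq_iff_eq_mul] at h
  exact h

/-- Maximal tori of a smooth connected group over an algebraically closed field are conjugate. -/
theorem maxTorus_conj [IsAlgClosed k] [Smooth G.hom] [QuasiCompact G.hom] [ConnectedSpace G.left]
    {T₁ T₂ : Over (Spec (CommRingCat.of k))} [GrpObj T₁] [GrpObj T₂] (i₁ : T₁ ⟶ G) (i₂ : T₂ ⟶ G)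
    (h₁ : Red.IsMaximalTorus i₁) (h₂ : Red.IsMaximalTorus i₂) :
    ∃ g : 𝟙_ (Over (Spec (CommRingCat.of k))) ⟶ G, SGA3x.ConjBy i₁ i₂ g := by
  obtain ⟨Z, _, z, hz, -, hzc, Q, _, q, hq, hQa, hQft, hqf, hqs, hker⟩ := Groth.Agent.S3027.result k G
  haveI := hq; haveI := hQa; haveI := hQft; haveI := hqf; haveI := hqs
  haveI : IsSeparated G.hom := SGA3xLib.isSeparated_of_grpObj G
  haveI : IsLocallyNoetherian Q.left := LocallyOfFiniteType.isLocallyNoetherian Q.hom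
  haveI : LocallyOfFiniteType (q.left ≫ Q.hom) := by rw [Over.w q]; infer_instance
  haveI : LocallyOfFiniteType q.left := locallyOfFiniteType_of_comp q.left Q.hom
  haveI : Smooth (q.left ≫ Q.hom) := by rw [Over.w q]; infer_instance
  haveI : Smooth Q.hom := Groth.Agent.S0115.result q.left Q.hom
  haveI : ConnectedSpace Q.left := q.left.surjective.connectedSpace q.left.continuous
  obtain ⟨S, _, j, hS, hj, -, huniv⟩ := HMTor29.MaxTorus.exists_universal (G := Q)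
  haveI := hj
  have move : ∀ {T : Over (Spec (CommRingCat.of k))} [GrpObj T] (i : T ⟶ G), Red.IsMaximalTorus i →
      ∃ g : 𝟙_ (Over (Spec (CommRingCat.of k))) ⟶ G, ∃ p : T ⟶ S,
        Red.IsMaximalTorus (i ≫ cj g) ∧ (i ≫ cj g) ≫ q = p ≫ j := by
    intro T _ i hi
    haveI := hi.1
    obtain ⟨gQ, p, -, hp⟩ := huniv T hi.2.2.1 (i ≫ q)
    obtain ⟨g, hg⟩ := exists_ratPoint_lift q gQ
    refine ⟨g⁻¹, p, isMaximalTorus_comp_aut hi _, ?_⟩
    rw [Category.assoc, cj_hom, ← Category.assoc, hp, GrpObj.inv_comp, hg]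
    simp only [Category.assoc, cj_comp, mul_inv_cancel, cj_one, Category.comp_id]
  obtain ⟨g₁, p₁, hm₁, hq₁⟩ := move i₁ h₁
  obtain ⟨g₂, p₂, hm₂, hq₂⟩ := move i₂ h₂
  haveI := hm₁.1
  haveI := hm₂.1
  haveI := hm₁.2.1
  haveI := hm₂.2.1
  haveI : ConnectedSpace T₁.left := TorusConnLib.connectedSpace T₁ hm₁.2.2.1
  have hcomm : ∀ (X : Over (Spec (CommRingCat.of k))) (t : X ⟶ T₁) (r : X ⟶ T₂),
      (t ≫ i₁ ≫ cj g₁) * (r ≫ i₂ ≫ cj g₂) = (r ≫ i₂ ≫ cj g₂) * (t ≫ i₁ ≫ cj g₁) := fun X t r => by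
    refine commute_of_central_commutator hm₁.2.2.1 hm₂.2.2.1 (i₁ ≫ cj g₁) (i₂ ≫ cj g₂) (fun X t r g => ?_) t r
    have hker1 : ((t ≫ i₁ ≫ cj g₁) * (r ≫ i₂ ≫ cj g₂) * (t ≫ i₁ ≫ cj g₁)⁻¹ * (r ≫ i₂ ≫ cj g₂)⁻¹) ≫ q = 1 := by
      rw [Category.assoc] at hq₁ hq₂
      simp only [MonObj.mul_comp, GrpObj.inv_comp, Category.assoc, hq₁, hq₂]
      simp only [← Category.assoc, ← GrpObj.inv_comp, ← MonObj.mul_comp]
      rw [SGA3cLib.torus_mul_comm hS (t ≫ p₁) (r ≫ p₂)]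
      simp
    obtain ⟨y, hy, -⟩ := hker.exists_lift ((t ≫ i₁ ≫ cj g₁) * (r ≫ i₂ ≫ cj g₂) * (t ≫ i₁ ≫ cj g₁)⁻¹ * (r ≫ i₂ ≫ cj g₂)⁻¹)
      (toUnit X) (by rw [hker1, Hom.one_def])
    have h := (hzc X _).1 ⟨y, hy⟩ X (𝟙 X) g
    rwa [Category.id_comp] at h
  obtain ⟨M, _, m, a, b, hm, hmm, hM, ha, hb⟩ := MaxTorus26.exists_torus_ge hm₁.2.2.1 hm₂.2.2.1
    (i₁ ≫ cj g₁) (i₂ ≫ cj g₂) hcomm
  haveI := hm; haveI := hmm
  haveI : IsIso a := (HMTor29.MaxTorus.isMaxTorus hm₁).2.2.2 M m a hM ha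
  haveI : IsIso b := (HMTor29.MaxTorus.isMaxTorus hm₂).2.2.2 M m b hM hb
  let φ : T₁ ≅ T₂ := asIso a ≪≫ (asIso b).symm
  have hφ : φ.hom ≫ i₂ ≫ cj g₂ = i₁ ≫ cj g₁ := by
    show (a ≫ inv b) ≫ _ = _
    rw [← hb, Category.assoc, IsIso.inv_hom_id_assoc, ha]
  have hφ' : φ.hom ≫ i₂ = i₁ ≫ cj (g₁ * g₂⁻¹) := by
    have h := congrArg (· ≫ cj g₂⁻¹) hφ
    simpa only [Category.assoc, cj_comp, mul_inv_cancel, cj_one, Category.comp_id] using h
  refine ⟨(g₁ * g₂⁻¹)⁻¹, φ, ?_⟩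
  rw [hφ', comp_cj, GrpObj.comp_inv, _root_.inv_inv]

/-- Maximal tori of a smooth group of finite type over an algebraically closed field are conjugate. -/
theorem maxTorus_conj' [IsAlgClosed k] [Smooth G.hom] [QuasiCompact G.hom]
    {T₁ T₂ : Over (Spec (CommRingCat.of k))} [GrpObj T₁] [GrpObj T₂] (i₁ : T₁ ⟶ G) (i₂ : T₂ ⟶ G)
    (h₁ : Red.IsMaximalTorus i₁) (h₂ : Red.IsMaximalTorus i₂) :
    ∃ g : 𝟙_ (Over (Spec (CommRingCat.of k))) ⟶ G, SGA3x.ConjBy i₁ i₂ g := by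
  obtain ⟨G₀, _, ι₀, hι, hcl, hfl, hrange, -, hcpt⟩ := Groth.Agent.S7520.result k G
  haveI := hι; haveI := hcl; haveI := hfl; haveI := hcpt
  haveI : IsLocallyNoetherian G.left := LocallyOfFiniteType.isLocallyNoetherian G.hom
  haveI : LocallyOfFinitePresentation ι₀.left := inferInstance
  haveI : IsOpenImmersion ι₀.left := IsOpenImmersion.of_flat_of_mono ι₀.left
  haveI : Mono ι₀ := Over.mono_of_mono_left ι₀
  haveI : Smooth G₀.hom := by rw [← Over.w ι₀]; infer_instance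
  haveI : QuasiCompact G₀.hom := AlgebraicGeometry.quasiCompact_of_compactSpace _
  haveI : ConnectedSpace G₀.left := by
    rw [connectedSpace_iff_univ]
    refine ⟨?_, ?_⟩
    · obtain ⟨x, -⟩ := hrange.ge (mem_connectedComponent (x := η[G].left.base (IsLocalRing.closedPoint k)))
      exact ⟨x, trivial⟩
    · rw [← ι₀.left.isClosedEmbedding.isInducing.isPreconnected_image, Set.image_univ, hrange]
      exact isPreconnected_connectedComponent
  have fac : ∀ {T : Over (Spec (CommRingCat.of k))} [GrpObj T] (i : T ⟶ G), Red.IsMaximalTorus i →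
      ∃ t : T ⟶ G₀, Red.IsMaximalTorus t ∧ t ≫ ι₀ = i := by
    intro T _ i hi
    haveI := hi.1; haveI := hi.2.1
    haveI : ConnectedSpace T.left := TorusConnLib.connectedSpace T hi.2.2.1
    have hsub : Set.range i.left.base ⊆ Set.range ι₀.left.base := by
      rw [hrange]
      refine (isConnected_range i.left.continuous).isPreconnected.subset_connectedComponent
        ⟨η[T].left.base (IsLocalRing.closedPoint k), ?_⟩
      exact congrArg (fun r : 𝟙_ (Over (Spec (CommRingCat.of k))) ⟶ G => r.left.base (IsLocalRing.closedPoint k))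
        (IsMonHom.one_hom i)
    let t : T ⟶ G₀ := Over.homMk (IsOpenImmersion.lift ι₀.left i.left hsub) (by
      rw [← Over.w ι₀, ← Category.assoc, IsOpenImmersion.lift_fac, Over.w i])
    have ht : t ≫ ι₀ = i := Over.OverMorphism.ext (IsOpenImmersion.lift_fac _ _ _)
    haveI : Mono (t ≫ ι₀) := by rw [ht]; infer_instance
    haveI : Mono t := mono_of_mono t ι₀
    haveI : IsMonHom t := BCPoints.isMonHom_of_mul t fun X x y => by
      rw [← cancel_mono ι₀]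
      simp only [MonObj.mul_comp, Category.assoc, ht]
    refine ⟨t, ⟨inferInstance, inferInstance, hi.2.2.1, fun s T' _ j _ _ f hT' hfj => ?_⟩, ht⟩
    haveI : (Over.pullback (Red.geomPt s)).IsRightAdjoint := (Over.mapPullbackAdj _).isRightAdjoint
    let e : Red.geomFibre s G₀ ⟶ Red.geomFibre s G := (Over.pullback (Red.geomPt s)).map ι₀
    haveI : IsMonHom e := inferInstanceAs (IsMonHom ((Over.pullback (Red.geomPt s)).map ι₀))
    haveI : Mono e := inferInstanceAs (Mono ((Over.pullback (Red.geomPt s)).map ι₀))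
    exact hi.2.2.2 s T' (j ≫ e) f hT' (by rw [← Category.assoc, hfj, ← Functor.map_comp, ht])
  obtain ⟨t₁, ht₁, e₁⟩ := fac i₁ h₁
  obtain ⟨t₂, ht₂, e₂⟩ := fac i₂ h₂
  obtain ⟨g, φ, hφ⟩ := maxTorus_conj t₁ t₂ ht₁ ht₂
  refine ⟨g ≫ ι₀, φ, ?_⟩
  have h := congrArg (· ≫ ι₀) hφ
  simpa only [MonObj.mul_comp, GrpObj.inv_comp, Category.assoc, e₁, e₂] using h

end Groth.Agent.ConjConst26
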