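import Groth.Agent.IsoTriv.SchemeBridge
import Groth.Agent.IsoTriv.TorsionQuot
import Groth.Agent.IsoTriv.TorsionDense
import Groth.Agent.IsoTriv.TorsionOpen
import Groth.Agent.IsoTriv.MultBasic
import Groth.Agent.SGA3cLib.CentralFib
import Groth.Agent.SGA3cLib.MTTransporter

/-! Torsion subgroups of a group of multiplicative type over a field, and their schematic density. -/

set_option linter.style.haveILetI false
set_option autoImplicit false
set_option backward.isDefEq.respectTransparency.types false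

universe u

open CategoryTheory MonoidalCategory CartesianMonoidalCategory MonObj AlgebraicGeometry Coalgebra WithConv
open scoped TensorProduct

noncomputable section

namespace Groth.Agent.ConjConst26

open CoactBr HopfLib.SpPoints SGA3cLib

variable {k : Type u} [Field k] {A : Type u} [CommRing A] [HopfAlgebra k A]

theorem torsionIdeal_le {n m : ℕ} (h : n ∣ m) : SGA3b.torsionIdeal k A m ≤ SGA3b.torsionIdeal k A n := by
  obtain ⟨d, rfl⟩ := h
  have h1 := (IsoTriv.torsion_le_ker_iff (Ideal.Quotient.mkₐ k (SGA3b.torsionIdeal k A n)) n).1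
    (Ideal.Quotient.mkₐ_ker k _).ge
  have h2 := (IsoTriv.torsion_le_ker_iff (Ideal.Quotient.mkₐ k (SGA3b.torsionIdeal k A n)) (n * d)).2
    (by rw [pow_mul, h1, _root_.one_pow])
  exact h2.trans (Ideal.Quotient.mkₐ_ker k _).le

/-- An element of `A ⊗ B` killed on all torsion subgroups is zero. -/
theorem eq_zero_of_torsion (hft : Algebra.FiniteType k A) (h : SGA3b.IsMultType k A) {B : Type u} [CommRing B]
    [Algebra k B] (z : A ⊗[k] B) (hz : ∀ n, 0 < n →
      Algebra.TensorProduct.map (Ideal.Quotient.mkₐ k (SGA3b.torsionIdeal k A n)) (AlgHom.id k B) z = 0) : z = 0 := by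
  classical
  have hd : ∀ x : A, (∀ n, 0 < n → x ∈ SGA3b.torsionIdeal k A n) → x = 0 := by
    intro x hx
    have h1 := IsoTriv.torsion_dense hft h (1 : A)
    have h2 : algebraMap A (Localization.Away (1 : A)) x = 0 := by
      rw [← Ideal.mem_bot, ← h1, Submodule.mem_iInf]
      exact fun n => Ideal.mem_map_of_mem _ (hx n.1 n.2)
    obtain ⟨⟨_, j, rfl⟩, hj⟩ := (IsLocalization.map_eq_zero_iff (Submonoid.powers (1 : A)) _ x).1 h2
    simpa using hj
  let b := Module.Free.chooseBasis k B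
  apply (TensorProduct.equivFinsuppOfBasisRight b).injective
  rw [map_zero]
  refine Finsupp.ext fun i => hd _ fun n hn => ?_
  let q := Ideal.Quotient.mkₐ k (SGA3b.torsionIdeal k A n)
  have key : ∀ y : A ⊗[k] B, TensorProduct.equivFinsuppOfBasisRight b (Algebra.TensorProduct.map q (AlgHom.id k B) y) i =
      q (TensorProduct.equivFinsuppOfBasisRight b y i) := fun y => by
    induction y using TensorProduct.induction_on with
    | zero => simp
    | tmul x y => simp
    | add x y hx hy => simp only [map_add, Finsupp.add_apply, hx, hy]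
  have h3 := key z
  rw [hz n hn, map_zero, Finsupp.zero_apply] at h3
  exact Ideal.Quotient.eq_zero_iff_mem.1 h3.symm

theorem isMonHom_pt_bialg {A B : Type u} [CommRing A] [CommRing B] [Bialgebra k A] [Bialgebra k B] (φ : A →ₐc[k] B) :
    IsMonHom (pt (φ : A →ₐ[k] B)) :=
  isMonHom_pt _ (AlgHom.ext fun a => CoalgHomClass.counit_comp_apply φ a)
    (AlgHom.ext fun a => (CoalgHomClass.map_comp_comul_apply φ a).symm)

set_option maxHeartbeats 1000000 in
/-- A group of multiplicative type over a field has finite torsion subgroups of multiplicative type, increasing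
with divisibility, and jointly detecting morphisms to affine schemes. -/
theorem exists_torsion_sub (H : Over (Spec (CommRingCat.of k))) [GrpObj H] (hH : SGA3x.IsMultTypeFT H) :
    ∃ (K : ℕ → Over (Spec (CommRingCat.of k))) (_ : ∀ n, GrpObj (K n)) (j : ∀ n, K n ⟶ H),
      (∀ n, IsMonHom (j n)) ∧ (∀ n, 0 < n → SGA3x.IsMultTypeFT (K n) ∧ IsFinite (K n).hom) ∧
      (∀ n m, n ∣ m → ∃ r : K n ⟶ K m, r ≫ j m = j n) ∧
      ∀ (X Y : Over (Spec (CommRingCat.of k))) [IsAffine X.left] [IsAffine Y.left] (a b : H ⊗ X ⟶ Y),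
        (∀ n, 0 < n → (j n ▷ X) ≫ a = (j n ▷ X) ≫ b) → a = b := by
  obtain ⟨A, _, _, hft, hmt, ⟨e⟩⟩ := IsoTriv.SchemeBridge.exists_hopf H hH
  haveI := IsoTriv.isCocomm_of_isMultType hmt
  haveI : ∀ n, (SGA3b.torsionIdeal k A n).IsHopfIdeal k := fun n => IsoTriv.isHopfIdeal_torsion n
  let i : H ≅ sp k A := (Grp.forget _).mapIso e
  haveI : IsMonHom i.hom := e.hom.hom.isMonHom_hom
  haveI : IsMonHom i.inv := e.inv.hom.isMonHom_hom
  let q : ∀ n, A →ₐc[k] A ⧸ SGA3b.torsionIdeal k A n := fun n =>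
    Bialgebra.Quotient.mkBialgHom (R := k) (SGA3b.torsionIdeal k A n)
  have hq : ∀ n, (q n : A →ₐ[k] A ⧸ SGA3b.torsionIdeal k A n) = Ideal.Quotient.mkₐ k _ := fun n =>
    AlgHom.ext fun _ => rfl
  haveI : ∀ n, IsMonHom (pt (q n : A →ₐ[k] A ⧸ SGA3b.torsionIdeal k A n)) := fun n => isMonHom_pt_bialg (q n)
  refine ⟨fun n => sp k (A ⧸ SGA3b.torsionIdeal k A n), fun n => inferInstance,
    fun n => pt (q n : A →ₐ[k] A ⧸ SGA3b.torsionIdeal k A n) ≫ i.inv, fun n => inferInstance, fun n hn => ?_,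
    fun n m hnm => ⟨pt (Ideal.Quotient.factorₐ k (torsionIdeal_le hnm)), ?_⟩, fun X Y _ _ a b hab => ?_⟩
  · have hker : RingHom.ker (q n : A →ₐ[k] A ⧸ SGA3b.torsionIdeal k A n) = SGA3b.torsionIdeal k A n := by
      rw [hq]; exact Ideal.Quotient.mkₐ_ker k _
    have hsurj : Function.Surjective (q n) := Ideal.Quotient.mk_surjective
    haveI := SGA3bLib.finite_of_ker_torsion hft hmt (q n) hsurj hn hker
    refine ⟨(IsoTriv.SchemeBridge.multTypeFT_of_isMultType inferInstance
      (SGA3bLib.isMultType_of_ker_torsion hmt (q n) hsurj n hker)), ?_⟩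
    show IsFinite (Spec.map _)
    rw [IsFinite.SpecMap_iff, CommRingCat.hom_ofHom, RingHom.finite_algebraMap]
    infer_instance
  · rw [← Category.assoc, ← CoactBr.pt_comp]
    congr 2
  · obtain ⟨B, _, _, ⟨eB⟩⟩ := Misc15.AffinePoints.exists_sp X
    obtain ⟨C, _, _, ⟨eC⟩⟩ := Misc15.AffinePoints.exists_sp Y
    haveI := Misc15.AffinePoints.isIso_Q (R := k) A B
    let P := Misc15.AffinePoints.Q (R := k) A B ≫ (i.inv ⊗ₘ eB.hom)
    haveI : IsIso P := inferInstance
    refine (cancel_mono eC.inv).1 ((cancel_epi P).1 ?_)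
    rw [← pt_algOf (P ≫ a ≫ eC.inv), ← pt_algOf (P ≫ b ≫ eC.inv)]
    congr 1
    refine AlgHom.ext fun c => sub_eq_zero.1 (eq_zero_of_torsion hft hmt _ fun n hn => ?_)
    rw [map_sub, sub_eq_zero]
    let π := Algebra.TensorProduct.map (Ideal.Quotient.mkₐ k (SGA3b.torsionIdeal k A n)) (AlgHom.id k B)
    have h1 : pt π ≫ P = Misc15.AffinePoints.Q (R := k) (A ⧸ SGA3b.torsionIdeal k A n) B ≫
        ((pt (q n : A →ₐ[k] A ⧸ SGA3b.torsionIdeal k A n) ≫ i.inv) ⊗ₘ eB.hom) := by
      rw [hq, show π = Algebra.TensorProduct.map (Ideal.Quotient.mkₐ k _) (AlgHom.id k B) from rfl,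
        reassoc_of% (Misc15.AffinePoints.pt_map_comp_Q (Ideal.Quotient.mkₐ k (SGA3b.torsionIdeal k A n)) (AlgHom.id k B))]
      simp [pt_id]
    have h2 : pt π ≫ P ≫ a ≫ eC.inv = pt π ≫ P ≫ b ≫ eC.inv := by
      rw [reassoc_of% h1, reassoc_of% h1,
        show ((pt (q n : A →ₐ[k] A ⧸ SGA3b.torsionIdeal k A n) ≫ i.inv) ⊗ₘ eB.hom) =
          (_ ◁ eB.hom) ≫ ((pt (q n : A →ₐ[k] A ⧸ SGA3b.torsionIdeal k A n) ≫ i.inv) ▷ X) from
          (MonoidalCategory.tensorHom_def' _ _), Category.assoc, Category.assoc, reassoc_of% (hab n hn)]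
    have h3 := congrArg algOf h2
    rw [algOf_pt_comp, algOf_pt_comp] at h3
    exact DFunLike.congr_fun h3 c

end Groth.Agent.ConjConst26
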