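import Groth.Agent.ConjConst26.Transporter
import Groth.Agent.ConjConst26.TorsionSub
import Groth.Agent.SGA3cLib.HomGroup
import Groth.Prelude.Def_RedSub

/-! The quotient of a smooth affine group over a field by the centralizer of a subgroup of multiplicative type is
affine: it is an open and closed orbit in a scheme of homomorphisms. -/

set_option linter.style.haveILetI false
set_option autoImplicit false
set_option backward.isDefEq.respectTransparency.types false

universe u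

open CategoryTheory CategoryTheory.Limits MonoidalCategory CartesianMonoidalCategory MonObj GrpObj AlgebraicGeometry

noncomputable section

namespace Groth.Agent.ConjConst26

open SGA3cLib

section Orbit

variable {Q : Scheme.{u}} [Subsingleton Q] [IsIntegral Q] {K G : Over Q} [GrpObj K] [GrpObj G]

/-- The orbit of a homomorphism out of a finite group of multiplicative type under conjugation is affine. -/
theorem exists_orbit_affine [IsAffine Q] (hK : SGA3x.IsMultTypeFT K) [IsFinite K.hom] [IsAffineHom G.hom] [Smooth G.hom]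
    (u : K ⟶ G) [IsMonHom u] :
    ∃ (U : Over Q) (o : G ⟶ U), IsAffine U.left ∧ LocallyOfFiniteType U.hom ∧ Surjective o.left ∧ Smooth o.left ∧
      ∀ (Z : Over Q) (a b : Z ⟶ G), a ≫ o = b ≫ o ↔
        ∀ (Z' : Over Q) (w : Z' ⟶ Z) (h : Z' ⟶ K),
          (w ≫ a) * (h ≫ u) * (w ≫ a)⁻¹ = (w ≫ b) * (h ≫ u) * (w ≫ b)⁻¹ := by
  haveI := HomGroup.flat_of_multTypeFT K hK
  haveI := TrivLocus.locallyOfFinitePresentation_of_multTypeFT K hK
  haveI : IsSeparated G.hom := inferInstance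
  obtain ⟨A, υ, hυ, hA, hAft, -⟩ := HomGroup.exists_homGroup K G
  haveI := hA
  haveI : IsAffine A.left := isAffine_of_isAffineHom A.hom
  have hcls : ∀ (Z : Over Q) (p p' : Z ⟶ A),
      (∀ (Z' : Over Q) (w : Z' ⟶ Z) (h : Z' ⟶ K), lift h (w ≫ p) ≫ υ = lift h (w ≫ p') ≫ υ) → p = p' := by
    intro Z p p' h
    have e : (K ◁ p) ≫ υ = (K ◁ p') ≫ υ := by
      have h1 := h (K ⊗ Z) (snd _ _) (fst _ _)
      rwa [show lift (fst K Z) (snd K Z ≫ p) = K ◁ p by ext <;> simp,
        show lift (fst K Z) (snd K Z ≫ p') = K ◁ p' by ext <;> simp] at h1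
    have hf : AutFam.IsHomFamily K G ((K ◁ p') ≫ υ) := fun X g₁ g₂ t => by
      simp only [lift_whiskerLeft_assoc, hυ.1 X g₁ g₂ (t ≫ p')]
    exact (hυ.2 Z _ hf).unique e rfl
  let Ψ : A ⊗ K ⟶ G := lift (snd A K) (fst A K) ≫ υ
  have hΨl : ∀ {Z : Over Q} (p : Z ⟶ A) (h : Z ⟶ K), lift p h ≫ Ψ = lift h p ≫ υ := fun p h => by
    rw [← Category.assoc, comp_lift, lift_fst, lift_snd]
  have hΨ : IsFam Ψ := fun Z p h h' => by simp only [hΨl, hυ.1 Z h h' p]
  let φ : K ⊗ G ⟶ G := snd K G * (fst K G ≫ u) * (snd K G)⁻¹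
  have hφl : ∀ {Z : Over Q} (h : Z ⟶ K) (a : Z ⟶ G), lift h a ≫ φ = a * (h ≫ u) * a⁻¹ := fun h a => by
    simp only [φ, MonObj.comp_mul, GrpObj.comp_inv, lift_snd, lift_fst_assoc]
  have hφ : AutFam.IsHomFamily K G φ := fun X g₁ g₂ t => by
    simp only [hφl, MonObj.mul_comp]
    group
  obtain ⟨o₀, ho₀, -⟩ := hυ.2 G φ hφ
  have hol : ∀ {Z : Over Q} (h : Z ⟶ K) (a : Z ⟶ G), lift h (a ≫ o₀) ≫ υ = a * (h ≫ u) * a⁻¹ := fun h a => by
    rw [← hφl, ← ho₀, lift_whiskerLeft_assoc]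
  obtain ⟨T, π, g, hsm, hπ, hT, hTmono⟩ := exists_transporter' (CentralFib.locally_of_multTypeFT hK) (const A u) Ψ
    (isFam_const u) hΨ
  haveI := hsm
  obtain ⟨t₀, ht₀, ht₀'⟩ := hT G o₀ (𝟙 G) (fun Z' w h => by
    rw [lift_const, hΨl, Category.comp_id, hol])
  have hg : g ≫ o₀ = π := hcls T _ _ fun Z' w h => by
    rw [← Category.assoc, hol, ← hΨl, ← hπ Z' w h, lift_const]
  have hiso : g ≫ t₀ = 𝟙 T := hTmono T _ _ (by rw [Category.assoc, ht₀, hg, Category.id_comp])
    (by rw [Category.assoc, ht₀', Category.comp_id, Category.id_comp])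
  let e : G ≅ T := ⟨t₀, g, ht₀', hiso⟩
  haveI : IsIso t₀ := e.isIso_hom
  haveI : IsIso t₀.left := inferInstanceAs (IsIso ((Over.forget Q).map t₀))
  haveI : Smooth o₀.left := by rw [← ht₀, Over.comp_left]; infer_instance
  have hV := isClopen_range (CentralFib.locally_of_multTypeFT hK) Ψ hΨ u π g hπ
    (fun Z p g' h => (hT Z p g' h).imp fun t ht => ht.1)
  have hr : Set.range o₀.left.base = Set.range π.left.base := by
    refine Set.Subset.antisymm ?_ ?_
    · rintro _ ⟨x, rfl⟩; exact ⟨t₀.left.base x, congrArg (fun r : G ⟶ A => r.left.base x) ht₀⟩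
    · rintro _ ⟨x, rfl⟩; exact ⟨g.left.base x, congrArg (fun r : T ⟶ A => r.left.base x) hg⟩
  let V : A.left.Opens := ⟨Set.range o₀.left.base, hr ▸ hV.2⟩
  haveI : IsClosedImmersion V.ι := .of_isPreimmersion V.ι (by
    rw [Scheme.Opens.range_ι]
    show IsClosed (Set.range o₀.left.base)
    rw [hr]; exact hV.1)
  let U : Over Q := Over.mk (V.ι ≫ A.hom)
  have hsub : Set.range o₀.left.base ⊆ Set.range V.ι.base := by rw [Scheme.Opens.range_ι]; rfl
  let ol : G.left ⟶ V := IsOpenImmersion.lift V.ι o₀.left hsub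
  have hfac : ol ≫ V.ι = o₀.left := IsOpenImmersion.lift_fac _ _ _
  let o : G ⟶ U := Over.homMk ol (by
    show ol ≫ V.ι ≫ A.hom = G.hom
    rw [← Category.assoc, hfac, Over.w])
  let io : U ⟶ A := Over.homMk V.ι rfl
  haveI : Mono io := by
    haveI : Mono io.left := inferInstanceAs (Mono V.ι)
    exact Over.mono_of_mono_left io
  have ho : o ≫ io = o₀ := Over.OverMorphism.ext hfac
  haveI : LocallyOfFiniteType A.hom := hAft inferInstance
  haveI : LocallyOfFiniteType U.hom := inferInstanceAs (LocallyOfFiniteType (V.ι ≫ A.hom))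
  refine ⟨U, o, (isAffine_of_isAffineHom V.ι : IsAffine (V : Scheme.{u})), inferInstance, ⟨fun v => ?_⟩, ?_, fun Z a b => ?_⟩
  · obtain ⟨x, hx⟩ : V.ι.base v ∈ Set.range o₀.left.base := by
      have : V.ι.base v ∈ Set.range V.ι.base := ⟨v, rfl⟩
      rw [Scheme.Opens.range_ι] at this
      exact this
    refine ⟨x, V.ι.isOpenEmbedding.injective ?_⟩
    rw [← Scheme.Hom.comp_apply]
    exact (congrArg (fun r : G.left ⟶ A.left => r.base x) hfac).trans hx
  · exact MorphismProperty.of_isPullback (P := @Smooth)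
      (IsPullback.of_horiz_isIso_mono ⟨show 𝟙 _ ≫ o₀.left = ol ≫ V.ι by rw [Category.id_comp, hfac]⟩) inferInstance
  · rw [← cancel_mono io, Category.assoc, Category.assoc, ho]
    refine ⟨fun h Z' w k => ?_, fun h => hcls Z _ _ fun Z' w k => ?_⟩
    · rw [← hol, ← hol, Category.assoc, Category.assoc, h]
    · rw [← Category.assoc, ← Category.assoc, hol, hol, h]

end Orbit

section Field

variable {k : Type u} [Field k] {G H C : Over (Spec (CommRingCat.of k))} [GrpObj G] [GrpObj H]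

/-- Some finite torsion subgroup has the same centralizer as the group. -/
theorem exists_centralizer_torsion [IsAffine G.left] [Smooth G.hom] (hH : SGA3x.IsMultTypeFT H) (u : H ⟶ G)
    [IsMonHom u] :
    ∃ (K : Over (Spec (CommRingCat.of k))) (_ : GrpObj K) (j : K ⟶ H), IsMonHom j ∧ SGA3x.IsMultTypeFT K ∧
      IsFinite K.hom ∧ ∀ (X : Over (Spec (CommRingCat.of k))) (g : X ⟶ G),
        (∀ (X' : Over _) (x : X' ⟶ X) (h : X' ⟶ K), (x ≫ g) * (h ≫ j ≫ u) = (h ≫ j ≫ u) * (x ≫ g)) →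
        ∀ (X' : Over _) (x : X' ⟶ X) (h : X' ⟶ H), (x ≫ g) * (h ≫ u) = (h ≫ u) * (x ≫ g) := by
  obtain ⟨K, _, j, hj, hK, hdiv, hdense⟩ := exists_torsion_sub H hH
  haveI : ∀ n, IsMonHom (j n) := hj
  haveI : IsAffineHom G.hom := inferInstance
  haveI : IsSeparated G.hom := inferInstance
  haveI : LocallyOfFiniteType G.hom := inferInstance
  let N : ℕ → ℕ := fun i => (i + 1).factorial
  choose Z gZ c hc hcl hsm using fun i => MTTransporter.exists_centralizer (j (N i) ≫ u)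
    (CentralFib.locally_of_multTypeFT (hK (N i) (Nat.factorial_pos _)).1)
  have hmono : ∀ i m, i ≤ m → ∃ r : Z m ⟶ Z i, r ≫ c i = c m := by
    intro i m him
    refine ((hc i).2.2 (Z m) (c m)).2 fun X' x h => ?_
    obtain ⟨r, hr⟩ := hdiv (N i) (N m) (Nat.factorial_dvd_factorial (by omega))
    have h1 := ((hc m).2.2 (Z m) (c m)).1 ⟨𝟙 _, Category.id_comp _⟩ X' x (h ≫ r)
    rwa [Category.assoc, ← Category.assoc r, hr] at h1
  haveI : IsLocallyNoetherian G.left := LocallyOfFiniteType.isLocallyNoetherian G.hom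
  haveI : IsNoetherianRing Γ(G.left, ⊤) := IsLocallyNoetherian.component_noetherian ⟨⊤, isAffineOpen_top _⟩
  let J : ℕ →o Ideal Γ(G.left, ⊤) := ⟨fun i => RingHom.ker (c i).left.appTop.hom, fun i m him => by
    obtain ⟨r, hr⟩ := hmono i m him
    intro x hx
    rw [RingHom.mem_ker] at hx ⊢
    rw [← hr, Over.comp_left, Scheme.Hom.comp_appTop, CommRingCat.comp_apply, hx, map_zero]⟩
  obtain ⟨i, hi⟩ := monotone_stabilizes_iff_noetherian.mpr (inferInstance : IsNoetherian _ _) J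
  refine ⟨K (N i), inferInstance, j (N i), hj _, (hK _ (Nat.factorial_pos _)).1, (hK _ (Nat.factorial_pos _)).2,
    fun X g hg X' x h => ?_⟩
  obtain ⟨z, rfl⟩ := ((hc i).2.2 X g).2 hg
  haveI := hcl i
  haveI : IsAffine (Z i).left := isAffine_of_isAffineHom (c i).left
  have key : (snd H (Z i) ≫ c i) * (fst H (Z i) ≫ u) = (fst H (Z i) ≫ u) * (snd H (Z i) ≫ c i) := by
    refine hdense (Z i) G _ _ fun n hn => ?_
    let m := max i n
    haveI := hcl m
    have hle : (c m).left.ker ≤ (c i).left.ker := by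
      refine Scheme.IdealSheafData.le_of_isAffine ?_
      rw [Scheme.Hom.ker_apply, Scheme.Hom.ker_apply]
      exact (hi m (le_max_left i n)).ge
    let rl := IsClosedImmersion.lift (c m).left (c i).left hle
    have hrl : rl ≫ (c m).left = (c i).left := IsClosedImmersion.lift_fac _ _ _
    let r : Z i ⟶ Z m := Over.homMk rl (by rw [← Over.w (c m), ← Category.assoc, hrl, Over.w])
    have hr : r ≫ c m = c i := Over.OverMorphism.ext hrl
    obtain ⟨s, hs⟩ := hdiv n (N m) (Nat.dvd_factorial hn (by omega))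
    have h1 := ((hc m).2.2 (Z i) (c i)).1 ⟨r, hr⟩ (K n ⊗ Z i) (snd _ _) (fst _ _ ≫ s)
    rw [Category.assoc, ← Category.assoc s, hs] at h1
    simp only [MonObj.comp_mul, whiskerRight_snd_assoc, whiskerRight_fst_assoc]
    exact h1
  have h2 := congrArg (lift h (x ≫ z) ≫ ·) key
  simp only [MonObj.comp_mul, lift_fst_assoc, lift_snd_assoc, Category.assoc] at h2
  exact h2

theorem comp_eq_iff_of_quotient {S : Scheme.{u}} {G C Q : Over S} [GrpObj G] {c : C ⟶ G} {q : G ⟶ Q}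
    (hq : RedSub.IsQuotient c q) {Z : Over S} (a b : Z ⟶ G) :
    a ≫ q = b ≫ q ↔ ∃ z : Z ⟶ C, a * (z ≫ c) = b := by
  obtain ⟨-, -, -, hp⟩ := hq
  constructor
  · intro h
    obtain ⟨y, h1, h2⟩ := hp.exists_lift a b h
    refine ⟨y ≫ snd _ _, ?_⟩
    rw [← h2, Hom.mul_def, ← Category.assoc, ← h1, Category.assoc]
    congr 1
    apply CartesianMonoidalCategory.hom_ext <;> simp
  · rintro ⟨z, rfl⟩
    have := congrArg (lift a z ≫ ·) hp.w
    simp only [lift_fst_assoc, Category.assoc, lift_whiskerLeft_assoc] at this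
    rw [this, Hom.mul_def, Category.assoc]

/-- The orbit map whose fibres are the cosets of the centralizer. -/
theorem exists_centralizer_orbit [IsAffine G.left] [Smooth G.hom] (hH : SGA3x.IsMultTypeFT H) (u : H ⟶ G)
    [IsMonHom u] [GrpObj C] (c : C ⟶ G) (hc : Red.IsCentralizerOf u c) :
    ∃ (U : Over (Spec (CommRingCat.of k))) (o : G ⟶ U), IsAffine U.left ∧ LocallyOfFiniteType U.hom ∧
      Surjective o.left ∧ Smooth o.left ∧
      ∀ {Z : Over (Spec (CommRingCat.of k))} (a b : Z ⟶ G), (∃ z : Z ⟶ C, a * (z ≫ c) = b) ↔ a ≫ o = b ≫ o := by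
  obtain ⟨K, _, j, hj, hKm, hKf, hKc⟩ := exists_centralizer_torsion (G := G) hH u
  haveI := hKf
  obtain ⟨U, o, hU, hUft, hos, hom, ho⟩ := exists_orbit_affine hKm (j ≫ u)
  have hrel : ∀ {Z : Over (Spec (CommRingCat.of k))} (a b : Z ⟶ G), (∃ z : Z ⟶ C, a * (z ≫ c) = b) ↔ a ≫ o = b ≫ o := by
    intro Z a b
    rw [ho]
    constructor
    · rintro ⟨z, rfl⟩ Z' w h
      have h1 := (hc.2.2 Z (z ≫ c)).1 ⟨z, rfl⟩ Z' w (h ≫ j)
      rw [Category.assoc] at h1
      rw [MonObj.comp_mul, _root_.mul_inv_rev, _root_.mul_assoc (w ≫ a) _ (h ≫ j ≫ u), h1]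
      group
    · intro h
      obtain ⟨z, hz⟩ := (hc.2.2 Z (a⁻¹ * b)).2 (hKc Z _ fun Z' w k => by
        have h1 := h Z' w k
        rw [MonObj.comp_mul, GrpObj.comp_inv]
        rw [mul_inv_eq_iff_eq_mul] at h1
        rw [_root_.mul_assoc, ← mul_inv_eq_iff_eq_mul] at h1
        calc (w ≫ a)⁻¹ * (w ≫ b) * (k ≫ j ≫ u)
            = (w ≫ a)⁻¹ * ((w ≫ b) * (k ≫ j ≫ u) * (w ≫ b)⁻¹) * (w ≫ b) := by group
          _ = (k ≫ j ≫ u) * ((w ≫ a)⁻¹ * (w ≫ b)) := by rw [← h Z' w k]; group)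
      exact ⟨z, by rw [hz, mul_inv_cancel_left]⟩
  exact ⟨U, o, hU, hUft, hos, hom, hrel⟩

/-- The quotient by the centralizer of a subgroup of multiplicative type is affine. -/
theorem isAffine_quotient_centralizer [IsAffine G.left] [Smooth G.hom] (hH : SGA3x.IsMultTypeFT H) (u : H ⟶ G)
    [IsMonHom u] [GrpObj C] (c : C ⟶ G) (hc : Red.IsCentralizerOf u c) (Q : Over (Spec (CommRingCat.of k)))
    (q : G ⟶ Q) (hq : RedSub.IsQuotient c q) : IsAffine Q.left := by
  obtain ⟨U, o, hU, -, hos, hom, hrel'⟩ := exists_centralizer_orbit hH u c hc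
  have hrel : ∀ {Z : Over (Spec (CommRingCat.of k))} (a b : Z ⟶ G), a ≫ q = b ≫ q ↔ a ≫ o = b ≫ o :=
    fun a b => (comp_eq_iff_of_quotient hq a b).trans (hrel' a b)
  obtain ⟨hqs, hqf, hqp, -⟩ := hq
  haveI := hqs
  haveI := hqf
  haveI := hqp
  haveI := hos
  haveI := hom
  have lifts : ∀ {A B : Over (Spec (CommRingCat.of k))} (x : G ⟶ A) (y : G ⟶ B),
      (∀ {Z : Over (Spec (CommRingCat.of k))} (a b : Z ⟶ G), a ≫ x = b ≫ x → a ≫ y = b ≫ y) →
      ∀ {W : Scheme.{u}} (g₁ g₂ : W ⟶ G.left), g₁ ≫ x.left = g₂ ≫ x.left → g₁ ≫ y.left = g₂ ≫ y.left := by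
    intro A B x y hxy W g₁ g₂ h
    let Z : Over (Spec (CommRingCat.of k)) := Over.mk (g₁ ≫ G.hom)
    let b : Z ⟶ G := Over.homMk g₂ (by
      show g₂ ≫ G.hom = g₁ ≫ G.hom
      rw [← Over.w x, ← Category.assoc, ← h, Category.assoc])
    let a : Z ⟶ G := Over.homMk g₁ rfl
    have hab : a ≫ x = b ≫ x := by ext; exact h
    exact congrArg (fun r : Z ⟶ B => r.left) (hxy a b hab)
  let f : Q.left ⟶ U.left := EffectiveEpi.desc q.left o.left (lifts q o fun a b => (hrel a b).1)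
  let f' : U.left ⟶ Q.left := EffectiveEpi.desc o.left q.left (lifts o q fun a b => (hrel a b).2)
  let e : Q.left ≅ U.left := ⟨f, f', by
      rw [← cancel_epi q.left, EffectiveEpi.fac_assoc, EffectiveEpi.fac, Category.comp_id], by
      rw [← cancel_epi o.left, EffectiveEpi.fac_assoc, EffectiveEpi.fac, Category.comp_id]⟩
  haveI := hU
  haveI : IsIso f := e.isIso_hom
  exact .of_isIso f

end Field

end Groth.Agent.ConjConst26
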