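import Groth.Agent.ConjConst26.NormCartan
import Groth.Agent.SGA7Aut29.PowSurj

/-! Cartan subgroups of a subgroup containing a Cartan subgroup. -/

set_option linter.style.haveILetI false
set_option autoImplicit false
set_option backward.isDefEq.respectTransparency.types false
set_option maxHeartbeats 1000000
set_option synthInstance.maxHeartbeats 400000

universe u

open CategoryTheory CategoryTheory.Limits MonoidalCategory CartesianMonoidalCategory MonObj GrpObj AlgebraicGeometry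

noncomputable section

namespace Groth.Agent.ConjConst26.CartanSub

variable {k : Type u} [Field k] {G H : Over (Spec (CommRingCat.of k))} [GrpObj G] [GrpObj H]

/-- A maximal torus of the group lying in a subgroup is maximal there. -/
theorem isMaximalTorus_of_comp {T : Over (Spec (CommRingCat.of k))} [GrpObj T] (i : T ⟶ H) [IsMonHom i]
    (emb : H ⟶ G) [IsMonHom emb] [Mono emb] (h : Red.IsMaximalTorus (i ≫ emb)) : Red.IsMaximalTorus i := by
  obtain ⟨-, hm, hTt, hmax⟩ := h
  haveI := hm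
  haveI : Mono i := mono_of_mono i emb
  refine ⟨inferInstance, inferInstance, hTt, fun s T' _ j _ _ f hT' hfj => ?_⟩
  haveI : (Over.pullback (Red.geomPt s)).IsRightAdjoint := (Over.mapPullbackAdj _).isRightAdjoint
  let emb₀ : Red.geomFibre s H ⟶ Red.geomFibre s G := (Over.pullback (Red.geomPt s)).map emb
  haveI : IsMonHom emb₀ := inferInstanceAs (IsMonHom ((Over.pullback (Red.geomPt s)).map emb))
  haveI : Mono emb₀ := inferInstanceAs (Mono ((Over.pullback (Red.geomPt s)).map emb))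
  exact hmax s T' (j ≫ emb₀) f hT' (by rw [← Category.assoc, hfj, ← Functor.map_comp])

variable [IsAlgClosed k]

/-- If `H` contains one Cartan subgroup of `G`, the maximal tori of `H` are maximal in `G` with centraliser in `H`. -/
theorem maximal_and_centralizer_le [Smooth H.hom] [ConnectedSpace H.left] (emb : H ⟶ G) [IsMonHom emb] [Mono emb]
    {C' : Over (Spec (CommRingCat.of k))} [GrpObj C'] (c' : C' ⟶ H) (hC' : SGA3x.IsCartanOver k (c' ≫ emb))
    {T : Over (Spec (CommRingCat.of k))} [GrpObj T] (i : T ⟶ H) (hi : Red.IsMaximalTorus i) :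
    Red.IsMaximalTorus (i ≫ emb) ∧
      ∀ (X : Over (Spec (CommRingCat.of k))) (g : X ⟶ G),
        (∀ (X' : Over (Spec (CommRingCat.of k))) (x : X' ⟶ X) (t : X' ⟶ T),
          (x ≫ g) * (t ≫ i ≫ emb) = (t ≫ i ≫ emb) * (x ≫ g)) → ∃ h : X ⟶ H, h ≫ emb = g := by
  haveI : QuasiCompact H.hom := SGA7Aut29.quasiCompact_of_connected H
  haveI := hi.1
  haveI := hi.2.1
  obtain ⟨-, -, T', _, i', hi', hcent⟩ := hC'
  haveI := hi'.1
  obtain ⟨t', ht'⟩ := (hcent.2.2 T' i').2 fun X' x h => by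
    rw [← MonObj.mul_comp, ← MonObj.mul_comp,
      IsoTriv.mul_comm_of_multTypeFT (MultExt26.isMultTypeFT_of_torus T' hi'.2.2.1)]
  haveI := hi'.1
  haveI : IsMonHom (t' ≫ c') := SGA3cLib.BCPoints.isMonHom_of_mul (t' ≫ c') fun X x y => by
    rw [← cancel_mono emb]; simp only [MonObj.mul_comp, Category.assoc, ht']
  have hT'H : Red.IsMaximalTorus (t' ≫ c') :=
    isMaximalTorus_of_comp (t' ≫ c') emb (by rw [Category.assoc, ht']; exact hi')
  obtain ⟨g, φ, hφ⟩ := maxTorus_conj' (t' ≫ c') i hT'H hi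
  have hG : i' ≫ AGFQuot23.cj (g ≫ emb)⁻¹ = φ.hom ≫ i ≫ emb := by
    rw [AGFQuot23.comp_cj, ← Category.assoc φ.hom, ← hφ]
    simp only [AGFQuot23.cst, MonObj.mul_comp, GrpObj.inv_comp, GrpObj.comp_inv, _root_.inv_inv, Category.assoc, ht']
  have hTmax : Red.IsMaximalTorus (i ≫ emb) := by
    have h1 : Red.IsMaximalTorus (φ.hom ≫ i ≫ emb) := hG ▸ isMaximalTorus_comp_aut hi' (AGFQuot23.cj (g ≫ emb)⁻¹)
    obtain ⟨-, -, -, hmax⟩ := h1
    refine ⟨inferInstance, mono_comp _ _, hi.2.2.1, fun s T₂ _ j _ _ f hT₂ hfj => ?_⟩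
    let φ₀ := (Over.pullback (Red.geomPt s)).map φ.hom
    haveI : IsIso φ₀ := ((Over.pullback (Red.geomPt s)).mapIso φ).isIso_hom
    haveI := hmax s T₂ j (φ₀ ≫ f) hT₂ (by
      rw [Category.assoc, hfj]; exact ((Over.pullback (Red.geomPt s)).map_comp φ.hom (i ≫ emb)).symm)
    exact IsIso.of_isIso_comp_left φ₀ f
  refine ⟨hTmax, fun X x hx => ?_⟩
  let a : X ⟶ G := toUnit X ≫ g ≫ emb
  obtain ⟨z, hz⟩ := (hcent.2.2 X (a⁻¹ * x * a)).2 fun X' y s => by
    have e := hx X' y (s ≫ φ.hom)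
    have e' : (s ≫ φ.hom) ≫ i ≫ emb = (y ≫ a) * (s ≫ i') * (y ≫ a)⁻¹ := by
      rw [Category.assoc, ← hG, AGFQuot23.comp_cj]
      simp only [AGFQuot23.cst, MonObj.comp_mul, GrpObj.comp_inv, _root_.inv_inv, a, comp_toUnit_assoc]
    rw [e'] at e
    simp only [MonObj.comp_mul, GrpObj.comp_inv]
    calc _ = (y ≫ a)⁻¹ * ((y ≫ x) * ((y ≫ a) * (s ≫ i') * (y ≫ a)⁻¹)) * (y ≫ a) := by group
      _ = _ := by rw [e]; group
  refine ⟨(toUnit X ≫ g) * (z ≫ c') * (toUnit X ≫ g)⁻¹, ?_⟩
  simp only [MonObj.mul_comp, GrpObj.inv_comp, Category.assoc, hz]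
  show a * (a⁻¹ * x * a) * a⁻¹ = x
  group

/-- The Cartan subgroups of such a subgroup are those of the group inside it. -/
theorem isCartanOver_iff [Smooth H.hom] [ConnectedSpace H.left] (emb : H ⟶ G) [IsMonHom emb] [Mono emb]
    {C' : Over (Spec (CommRingCat.of k))} [GrpObj C'] (c' : C' ⟶ H) (hC' : SGA3x.IsCartanOver k (c' ≫ emb))
    {C : Over (Spec (CommRingCat.of k))} [GrpObj C] (c : C ⟶ H) :
    SGA3x.IsCartanOver k c ↔ SGA3x.IsCartanOver k (c ≫ emb) := by
  constructor
  · rintro ⟨hc, hcm, T, _, i, hi, hcent⟩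
    haveI := hc; haveI := hcm; haveI := hi.1
    obtain ⟨hmax, hle⟩ := maximal_and_centralizer_le emb c' hC' i hi
    refine ⟨inferInstance, mono_comp _ _, T, inferInstance, i ≫ emb, hmax, inferInstance, mono_comp _ _,
      fun X x => ⟨?_, fun h => ?_⟩⟩
    · rintro ⟨z, rfl⟩ X' y t
      have e := congrArg (· ≫ emb) ((hcent.2.2 X (z ≫ c)).1 ⟨z, rfl⟩ X' y t)
      simpa only [MonObj.mul_comp, Category.assoc] using e
    · obtain ⟨w, rfl⟩ := hle X x h
      obtain ⟨z, hz⟩ := (hcent.2.2 X w).2 fun X' y t => by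
        rw [← cancel_mono emb]
        simpa only [MonObj.mul_comp, Category.assoc] using h X' y t
      exact ⟨z, by rw [← Category.assoc, hz]⟩
  · rintro ⟨hc, hcm, T, _, i, hi, hcent⟩
    haveI := hc; haveI := hcm
    haveI := hi.1
    obtain ⟨t, ht⟩ := (hcent.2.2 T i).2 fun X' x h => by
      rw [← MonObj.mul_comp, ← MonObj.mul_comp,
        IsoTriv.mul_comm_of_multTypeFT (MultExt26.isMultTypeFT_of_torus T hi.2.2.1)]
    haveI : Mono c := mono_of_mono c emb
    haveI : IsMonHom c := SGA3cLib.BCPoints.isMonHom_of_mul c fun X x y => by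
      rw [← cancel_mono emb, Category.assoc, MonObj.mul_comp, MonObj.mul_comp, Category.assoc, Category.assoc]
    haveI : IsMonHom (t ≫ c) := SGA3cLib.BCPoints.isMonHom_of_mul (t ≫ c) fun X x y => by
      rw [← cancel_mono emb]; simp only [MonObj.mul_comp, Category.assoc, ht]
    have hT : Red.IsMaximalTorus (t ≫ c) := isMaximalTorus_of_comp (t ≫ c) emb (by rw [Category.assoc, ht]; exact hi)
    refine ⟨inferInstance, inferInstance, T, inferInstance, t ≫ c, hT, inferInstance, inferInstance,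
      fun X x => ⟨?_, fun h => ?_⟩⟩
    · rintro ⟨z, rfl⟩ X' y s
      rw [← cancel_mono emb]
      simp only [MonObj.mul_comp, Category.assoc, ht]
      exact (hcent.2.2 X (z ≫ c ≫ emb)).1 ⟨z, rfl⟩ X' y s
    · obtain ⟨z, hz⟩ := (hcent.2.2 X (x ≫ emb)).2 fun X' y s => by
        have e := congrArg (· ≫ emb) (h X' y s)
        simpa only [MonObj.mul_comp, Category.assoc, ht] using e
      exact ⟨z, by rw [← cancel_mono emb, Category.assoc, hz]⟩

end Groth.Agent.ConjConst26.CartanSub
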