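import Groth.Agent.ConjConst26.RedCentre
import Groth.Agent.SGA3cLib.CentralEq
import Groth.Agent.SGA3cLib.CentralDescent
import Groth.Agent.SGA3cLib.NormalMultCentral
import Groth.Agent.MaxTorus26.Basic
import Groth.Agent.S19599
import Groth.Agent.S5431

/-! Central homomorphisms from groups of multiplicative type factor through maximal tori. -/

set_option linter.style.haveILetI false
set_option autoImplicit false
set_option backward.isDefEq.respectTransparency.types false
set_option maxHeartbeats 1000000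
set_option synthInstance.maxHeartbeats 400000

universe u

open CategoryTheory CategoryTheory.Limits MonoidalCategory CartesianMonoidalCategory MonObj GrpObj AlgebraicGeometry
open Groth.Agent.SGA3cLib

noncomputable section

namespace Groth.Agent.ConjConst26.CentralHom

variable {S : Scheme.{u}}

/-- A product of groups of multiplicative type is of multiplicative type. -/
theorem isMultTypeFT_prod {N Q : Over S} [GrpObj N] [GrpObj Q] (hN : SGA3x.IsMultTypeFT N)
    (hQ : SGA3x.IsMultTypeFT Q) : SGA3x.IsMultTypeFT (N ⊗ Q) := by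
  haveI := IsoTriv.SchemeBridge.isAffineHom_of_multTypeFT N hN
  haveI := IsoTriv.ExtensionMT.flat_of_multTypeFT N hN
  haveI : IsMonHom (snd N Q) := inferInstance
  haveI : IsMonHom (lift (𝟙 N) (1 : N ⟶ Q)) := BCPoints.isMonHom_of_mul _ fun X x y => by
    refine CartesianMonoidalCategory.hom_ext _ _ ?_ ?_
    · rw [Category.assoc, lift_fst, MonObj.mul_comp]; simp [comp_lift, MonObj.mul_comp]
    · rw [Category.assoc, lift_snd, MonObj.comp_one, MonObj.mul_comp]; simp [comp_lift, MonObj.comp_one]
  haveI : Surjective N.hom :=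
    ⟨fun s => ⟨(η[N] : 𝟙_ (Over S) ⟶ N).left.base s, by
      rw [← Scheme.Hom.comp_apply, Over.w]; rfl⟩⟩
  haveI : Surjective (snd N Q).left := inferInstanceAs (Surjective (pullback.snd N.hom Q.hom))
  haveI : Flat (snd N Q).left := inferInstanceAs (Flat (pullback.snd N.hom Q.hom))
  haveI : QuasiCompact (snd N Q).left := inferInstanceAs (QuasiCompact (pullback.snd N.hom Q.hom))
  refine S5431.result _ (N ⊗ Q) N Q (snd N Q) (lift (𝟙 N) (1 : N ⟶ Q)) ?_ hN hQ (Or.inl ?_)
  · refine IsPullback.of_isLimit' ⟨by rw [lift_snd, Hom.one_def]⟩ (PullbackCone.IsLimit.mk _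
      (fun s => s.fst ≫ fst N Q) (fun s => ?_) (fun s => toUnit_unique _ _) (fun s m h1 _ => ?_))
    · refine CartesianMonoidalCategory.hom_ext _ _ (by simp) ?_
      rw [Category.assoc, lift_snd, MonObj.comp_one, s.condition, Hom.one_def, toUnit_unique s.snd (toUnit _)]
    · rw [← h1, Category.assoc, lift_fst, Category.comp_id]
  · refine isCommMonObj_iff_isMulCommutative (N ⊗ Q) |>.2 fun W => ⟨⟨fun x y => ?_⟩⟩
    refine CartesianMonoidalCategory.hom_ext _ _ ?_ ?_ <;> rw [MonObj.mul_comp, MonObj.mul_comp]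
    · exact IsoTriv.mul_comm_of_multTypeFT hN _ _
    · exact IsoTriv.mul_comm_of_multTypeFT hQ _ _

variable {G : Over S} [GrpObj G]

/-- Centrality is stable under base change. -/
theorem central_bc {S' : Scheme.{u}} (f : S' ⟶ S) {H : Over S} [GrpObj H] (u : H ⟶ G) [IsMonHom u]
    (hc : ∀ (X : Over S) (x : X ⟶ H) (g : X ⟶ G), (x ≫ u) * g = g * (x ≫ u))
    (X : Over S') (x : X ⟶ Red.bc f H) (g : X ⟶ Red.bc f G) :
    (x ≫ (Over.pullback f).map u) * g = g * (x ≫ (Over.pullback f).map u) := by
  obtain ⟨x, rfl⟩ := (BCPoints.pt f H X).surjective x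
  obtain ⟨g, rfl⟩ := (BCPoints.pt f G X).surjective g
  rw [← BCPoints.pt_comp, ← BCPoints.pt_mul, ← BCPoints.pt_mul, hc]

/-- The shear of `H × T` by `uC`, as a map to `H × C`. -/
abbrev b1 {H T C : Over S} [GrpObj C] (uC : H ⟶ C) (iC : T ⟶ C) : H ⊗ T ⟶ H ⊗ C :=
  lift (fst H T) ((fst H T ≫ uC) * (snd H T ≫ iC))

/-- The inclusion of `H × T` in `H × C`. -/
abbrev b2 {H T C : Over S} (iC : T ⟶ C) : H ⊗ T ⟶ H ⊗ C := lift (fst H T) (snd H T ≫ iC)

/-- The two subgroups agree on each fibre. -/
theorem good_fibre [Smooth G.hom] [IsAffineHom G.hom] (hconn : ∀ s : S, _root_.IsConnected (G.hom.base ⁻¹' {s}))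
    {T : Over S} [GrpObj T] (i : T ⟶ G) [IsMonHom i] (hT : Red.IsMaximalTorus i)
    {H : Over S} [GrpObj H] (hH : SGA3x.IsMultTypeFT H) (u : H ⟶ G) [IsMonHom u]
    (hc : ∀ (X : Over S) (x : X ⟶ H) (g : X ⟶ G), (x ≫ u) * g = g * (x ≫ u))
    {C : Over S} [GrpObj C] (c : C ⟶ G) [IsMonHom c] [Mono c] (uC : H ⟶ C) [IsMonHom uC] (iC : T ⟶ C) [IsMonHom iC]
    (huC : uC ≫ c = u) (hiC : iC ≫ c = i) [Mono (b1 uC iC).left] [Mono (b2 (H := H) iC).left] (s : S) :
    CentralEq.Good (b1 uC iC) (b2 iC) (S.fromSpecResidueField s) := by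
  let K := AlgebraicClosure (S.residueField s)
  let p : (Spec (CommRingCat.of K) : Scheme.{u}) := IsLocalRing.closedPoint K
  have hfield := CentralEq.good_field (b1 uC iC) (b2 (H := H) iC) (Red.geomPt s) p
  have hbase : (Red.geomPt s).base p = s := by
    show (S.fromSpecResidueField s).base _ = s
    exact Scheme.range_fromSpecResidueField s |>.subset ⟨_, rfl⟩ |> Set.mem_singleton_iff.1
  rw [hbase] at hfield
  rw [← hfield, CentralEq.good_iff]
  let F := Over.pullback (Red.geomPt s)
  haveI : F.IsRightAdjoint := (Over.mapPullbackAdj _).isRightAdjoint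
  haveI : IsAffineHom (Red.geomFibre s G).hom := MorphismProperty.pullback_snd (P := @IsAffineHom) _ _ inferInstance
  haveI : Smooth (Red.geomFibre s G).hom := MorphismProperty.pullback_snd (P := @Smooth) _ _ inferInstance
  haveI : IsAffine (Red.geomFibre s G).left := isAffine_of_isAffineHom (Red.geomFibre s G).hom
  haveI : ConnectedSpace (Red.geomFibre s G).left := NormalMultCentral.connectedSpace_bc G (fun s' => by
    haveI : ConnectedSpace ↥(G.hom.base ⁻¹' {s'}) := isConnected_iff_connectedSpace.1 (hconn s')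
    exact (G.hom.fiberHomeo s').symm.surjective.connectedSpace (G.hom.fiberHomeo s').symm.continuous) _
  haveI : IsMonHom (F.map u) := inferInstanceAs (IsMonHom ((Over.pullback _).map u))
  haveI hmF : IsMonHom ((Over.pullback (Red.geomPt s)).map u) :=
    inferInstanceAs (IsMonHom ((Over.pullback _).map u))
  obtain ⟨w, hw⟩ := @RedCentre.factor_of_central (AlgebraicClosure (S.residueField s)) _ _ (Red.geomFibre s G) _ _ _ _
    (Red.geomFibre s H) _ ((Over.pullback (Red.geomPt s)).map u) hmF (CentralDescent.isMultTypeFT_bc _ H hH)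
    (central_bc _ u hc) (Red.geomFibre s T) _ ((Over.pullback (Red.geomPt s)).map i) (MaxTorus26.isMaximalTorus_geom hT s)
  let P := CartesianMonoidalCategory.prodComparisonIso F H T
  let sh : F.obj H ⊗ F.obj T ≅ F.obj H ⊗ F.obj T :=
    { hom := lift (fst _ _) ((fst _ _ ≫ w) * snd _ _)
      inv := lift (fst _ _) ((fst _ _ ≫ w)⁻¹ * snd _ _)
      hom_inv_id := by
        refine CartesianMonoidalCategory.hom_ext _ _ (by simp) ?_
        simp only [Category.assoc, lift_snd, MonObj.comp_mul, GrpObj.comp_inv, Category.id_comp]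
        erw [lift_fst_assoc, lift_snd, inv_mul_cancel_left]
      inv_hom_id := by
        refine CartesianMonoidalCategory.hom_ext _ _ (by simp) ?_
        simp only [Category.assoc, lift_snd, MonObj.comp_mul, GrpObj.comp_inv, Category.id_comp]
        erw [lift_fst_assoc, lift_snd, mul_inv_cancel_left] }
  refine ⟨P ≪≫ sh ≪≫ P.symm, ?_⟩
  haveI : IsMonHom (F.map uC) := inferInstanceAs (IsMonHom ((Over.pullback _).map uC))
  haveI : IsMonHom (F.map iC) := inferInstanceAs (IsMonHom ((Over.pullback _).map iC))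
  haveI : Mono (F.map c) := inferInstance
  haveI : IsMonHom (F.map c) := inferInstanceAs (IsMonHom ((Over.pullback _).map c))
  have hwC : w ≫ F.map iC = F.map uC := by
    rw [← cancel_mono (F.map c), Category.assoc, ← Functor.map_comp, hiC, hw, ← Functor.map_comp, huC]
  show (P.hom ≫ sh.hom ≫ P.inv) ≫ F.map (b2 (H := H) iC) = F.map (b1 uC iC)
  have hf : P.inv ≫ F.map (fst H T) = fst _ _ := by
    rw [Iso.inv_comp_eq]; exact (CartesianMonoidalCategory.prodComparison_fst F _ _).symm
  have hs : P.inv ≫ F.map (snd H T) = snd _ _ := by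
    rw [Iso.inv_comp_eq]; exact (CartesianMonoidalCategory.prodComparison_snd F _ _).symm
  have hf' : P.hom ≫ fst _ _ = F.map (fst H T) := CartesianMonoidalCategory.prodComparison_fst F _ _
  have hs' : P.hom ≫ snd _ _ = F.map (snd H T) := CartesianMonoidalCategory.prodComparison_snd F _ _
  rw [← cancel_mono (CartesianMonoidalCategory.prodComparisonIso F H C).hom]
  refine CartesianMonoidalCategory.hom_ext _ _ ?_ ?_
  · simp only [Category.assoc, CartesianMonoidalCategory.prodComparisonIso_hom,
      CartesianMonoidalCategory.prodComparison_fst]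
    rw [← Functor.map_comp, ← Functor.map_comp, lift_fst, lift_fst, hf, lift_fst]
    exact hf'
  · simp only [Category.assoc, CartesianMonoidalCategory.prodComparisonIso_hom,
      CartesianMonoidalCategory.prodComparison_snd]
    rw [← Functor.map_comp, ← Functor.map_comp, lift_snd, lift_snd, Functor.map_comp, reassoc_of% hs,
      lift_snd_assoc, MonObj.mul_comp, Category.assoc, hwC, MonObj.comp_mul, reassoc_of% hf', reassoc_of% hs',
      Functor.map_mul, Functor.map_comp, Functor.map_comp]

/-- A central homomorphism from a group of multiplicative type factors through every maximal torus. -/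
theorem exists_factor [Smooth G.hom] [IsAffineHom G.hom] (hconn : ∀ s : S, _root_.IsConnected (G.hom.base ⁻¹' {s}))
    {T : Over S} [GrpObj T] (i : T ⟶ G) (hT : Red.IsMaximalTorus i)
    {H : Over S} [GrpObj H] (hH : SGA3x.IsMultTypeFT H) (u : H ⟶ G) [IsMonHom u]
    (hc : ∀ (X : Over S) (x : X ⟶ H) (g : X ⟶ G), (x ≫ u) * g = g * (x ≫ u)) :
    ∃ w : H ⟶ T, w ≫ i = u := by
  obtain ⟨hi, him, hTt, -⟩ := id hT
  haveI := hi; haveI := him
  have hTm := MultExt26.isMultTypeFT_of_torus T hTt
  haveI hicl : IsClosedImmersion i.left :=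
    MTTransporterSub.isClosedImmersion_of_mono (CentralFib.locally_of_multTypeFT hTm) i
  haveI := TrivLocus.locallyOfFinitePresentation_of_multTypeFT T hTm
  haveI : LocallyOfFinitePresentation G.hom := inferInstance
  -- the centraliser of the torus
  obtain ⟨C, c, hccl, hC⟩ := Groth.Agent.S19599.result G T inferInstance inferInstance i hicl inferInstance hTm
  haveI := hccl
  haveI : Mono c := Over.mono_of_mono_left c
  obtain ⟨gr, hmon⟩ := exists_grpObj_of_subgroup c
    (fun X => (hC X 1).2 fun X' x a => by simp [MonObj.comp_one])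
    (fun X a b => (hC X _).2 fun X' x d => by
      have ha := (hC X _).1 ⟨a, rfl⟩ X' x d
      have hb := (hC X _).1 ⟨b, rfl⟩ X' x d
      rw [MonObj.comp_mul, _root_.mul_assoc, hb, ← _root_.mul_assoc, ha, _root_.mul_assoc])
    (fun X a => (hC X _).2 fun X' x d => by
      have ha : Commute (x ≫ a ≫ c) (d ≫ i) := (hC X _).1 ⟨a, rfl⟩ X' x d
      rw [GrpObj.comp_inv]
      exact ha.inv_left.eq)
  letI := gr
  haveI := hmon
  obtain ⟨uC, huC⟩ := (hC H u).2 fun X' x a => hc X' x _
  obtain ⟨iC, hiC⟩ := (hC T i).2 fun X' x a => by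
    rw [← MonObj.mul_comp, ← MonObj.mul_comp, IsoTriv.mul_comm_of_multTypeFT hTm]
  haveI : IsMonHom uC := BCPoints.isMonHom_of_mul uC fun X x y => by
    rw [← cancel_mono c]; simp only [MonObj.mul_comp, Category.assoc, huC]
  haveI : IsMonHom iC := BCPoints.isMonHom_of_mul iC fun X x y => by
    rw [← cancel_mono c]; simp only [MonObj.mul_comp, Category.assoc, hiC]
  haveI : Mono iC := by
    haveI : Mono (iC ≫ c) := hiC ▸ inferInstance
    exact mono_of_mono iC c
  -- the two subgroups of the product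
  let b₁ : H ⊗ T ⟶ H ⊗ C := b1 uC iC
  let b₂ : H ⊗ T ⟶ H ⊗ C := b2 iC
  have hcomm : ∀ (X : Over S) (x : X ⟶ C) (h : X ⟶ H), x * (h ≫ uC) = (h ≫ uC) * x := fun X x h => by
    rw [← cancel_mono c]
    simp only [MonObj.mul_comp, Category.assoc, huC]
    exact (hc X h _).symm
  have hcommT : ∀ (X : Over S) (x : X ⟶ C) (t : X ⟶ T), x * (t ≫ iC) = (t ≫ iC) * x := fun X x t => by
    rw [← cancel_mono c]
    simp only [MonObj.mul_comp, Category.assoc, hiC]
    simpa using (hC X (x ≫ c)).1 ⟨x, rfl⟩ X (𝟙 X) t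
  haveI : IsMonHom b₁ := BCPoints.isMonHom_of_mul b₁ fun X x y => by
    refine CartesianMonoidalCategory.hom_ext _ _ ?_ ?_
    · simp only [b₁, b1, Category.assoc, lift_fst, MonObj.mul_comp]
    · simp only [b₁, b1, Category.assoc, lift_snd, MonObj.mul_comp, MonObj.comp_mul]
      rw [_root_.mul_assoc, _root_.mul_assoc]
      congr 1
      have h9 := hcomm X (x ≫ snd H T ≫ iC) (y ≫ fst H T)
      simp only [Category.assoc] at h9
      rw [← _root_.mul_assoc, ← h9, _root_.mul_assoc]
  haveI : IsMonHom b₂ := BCPoints.isMonHom_of_mul b₂ fun X x y => by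
    refine CartesianMonoidalCategory.hom_ext _ _ ?_ ?_ <;>
      simp only [b₂, b2, Category.assoc, lift_fst, lift_snd, MonObj.mul_comp]
  haveI : Mono b₁ := ⟨fun x y h => by
    have h1 := congrArg (· ≫ fst H C) h
    have h2 := congrArg (· ≫ snd H C) h
    simp only [b₁, b1, Category.assoc, lift_fst, lift_snd, MonObj.comp_mul] at h1 h2
    refine CartesianMonoidalCategory.hom_ext _ _ h1 ?_
    rw [reassoc_of% h1, mul_right_inj] at h2
    rwa [← cancel_mono iC, Category.assoc, Category.assoc]⟩
  haveI : Mono b₂ := ⟨fun x y h => by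
    have h1 := congrArg (· ≫ fst H C) h
    have h2 := congrArg (· ≫ snd H C) h
    simp only [b₂, b2, Category.assoc, lift_fst, lift_snd] at h1 h2
    refine CartesianMonoidalCategory.hom_ext _ _ h1 ?_
    rwa [← cancel_mono iC, Category.assoc, Category.assoc]⟩
  haveI : Mono b₁.left := inferInstanceAs (Mono ((Over.forget _).map b₁))
  haveI : Mono b₂.left := inferInstanceAs (Mono ((Over.forget _).map b₂))
  haveI := IsoTriv.SchemeBridge.isAffineHom_of_multTypeFT H hH
  haveI := TrivLocus.locallyOfFinitePresentation_of_multTypeFT H hH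
  haveI : IsAffineHom C.hom := by rw [← Over.w c]; infer_instance
  haveI : LocallyOfFiniteType C.hom := by rw [← Over.w c]; infer_instance
  haveI : IsSeparated (H ⊗ C).hom := inferInstanceAs (IsSeparated (pullback.fst H.hom C.hom ≫ H.hom))
  haveI : LocallyOfFiniteType (H ⊗ C).hom := inferInstanceAs (LocallyOfFiniteType (pullback.fst H.hom C.hom ≫ H.hom))
  have hP := isMultTypeFT_prod hH hTm
  obtain ⟨U, -, hmem, hgood⟩ := CentralEq.exists_clopen b₁ b₂ (Or.inr inferInstance) hP hP fun X g h => by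
    refine CartesianMonoidalCategory.hom_ext _ _ ?_ ?_
    · simp only [MonObj.mul_comp]
      exact IsoTriv.mul_comm_of_multTypeFT hH _ _
    · simp only [MonObj.mul_comp, b₁, b1, Category.assoc, lift_snd, MonObj.comp_mul]
      have e1 := hcomm X (g ≫ snd H C) (h ≫ fst H T)
      have e2 := hcommT X (g ≫ snd H C) (h ≫ snd H T)
      simp only [Category.assoc] at e1 e2
      rw [← _root_.mul_assoc, e1, _root_.mul_assoc, e2, ← _root_.mul_assoc]
  -- the geometric fibres
  have hall : ∀ s : S, s ∈ U := fun s => (hmem s).2 (good_fibre hconn i hT hH u hc c uC iC huC hiC s)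
  -- descend to the whole base
  have hU : U = ⊤ := top_unique fun s _ => hall s
  subst hU
  have hgood' : CentralEq.Good b₁ b₂ (𝟙 S) := hgood.of_comp (k := S.topIso.inv) (hk := by simp)
  haveI := hgood'.1
  have hiso : IsIso ((Over.pullback (𝟙 S)).map (CentralEq.pr₁ b₁ b₂)) :=
    (isIso_iff_of_reflects_iso _ (Over.forget _)).1 hgood'.1
  haveI : IsIso (CentralEq.pr₁ b₁ b₂) := (NatIso.isIso_map_iff Over.pullbackId (CentralEq.pr₁ b₁ b₂)).1 hiso
  let q : H ⟶ H ⊗ T := lift (𝟙 H) 1 ≫ inv (CentralEq.pr₁ b₁ b₂) ≫ CentralEq.pr₂ b₁ b₂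
  have hq : q ≫ b₂ = lift (𝟙 H) 1 ≫ b₁ := by
    simp only [q, Category.assoc]
    rw [← (CentralEq.isPullback_inter b₁ b₂).w, IsIso.inv_hom_id_assoc]
  refine ⟨q ≫ snd H T, ?_⟩
  have h2 := congrArg (· ≫ snd H C ≫ c) hq
  simp only [b₁, b1, b₂, Category.assoc, lift_snd_assoc, MonObj.comp_mul, MonObj.mul_comp, huC, hiC, lift_fst_assoc,
    Category.id_comp] at h2
  rw [Category.assoc, h2]
  simp [MonObj.one_comp]

end Groth.Agent.ConjConst26.CentralHom
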