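import Groth.Agent.ConjConst26.CentralHom
import Groth.Agent.ConjConst26.MaxTorusConj
import Groth.Agent.SGA3cLib.ConjTransporter

/-! The normaliser of a Cartan subgroup is the normaliser of its maximal torus. -/

set_option linter.style.haveILetI false
set_option autoImplicit false
set_option backward.isDefEq.respectTransparency.types false
set_option maxHeartbeats 1000000
set_option synthInstance.maxHeartbeats 400000

universe u

open CategoryTheory CategoryTheory.Limits MonoidalCategory CartesianMonoidalCategory MonObj GrpObj AlgebraicGeometry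
open Groth.Agent.SGA3cLib

noncomputable section

namespace Groth.Agent.ConjConst26.NormCartan

variable {k : Type u} [Field k] {G C T : Over (Spec (CommRingCat.of k))} [GrpObj G] [GrpObj C] [GrpObj T]

/-- `g` conjugates the image of `c` into itself, and onto. -/
def Norm {X : Over (Spec (CommRingCat.of k))} (c : C ⟶ G) (g : X ⟶ G) : Prop :=
  ∀ (X' : Over (Spec (CommRingCat.of k))) (x : X' ⟶ X) (h : X' ⟶ C),
    (∃ h' : X' ⟶ C, (x ≫ g) * (h ≫ c) * (x ≫ g)⁻¹ = h' ≫ c) ∧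
    (∃ h' : X' ⟶ C, (x ≫ g)⁻¹ * (h ≫ c) * (x ≫ g) = h' ≫ c)

/-- Over a rational point both tori agree. -/
theorem good_closed [IsSeparated C.hom] [LocallyOfFiniteType C.hom] {X : Over (Spec (CommRingCat.of k))}
    (σ : Spec (CommRingCat.of k) ⟶ X.left) (hσ : σ ≫ X.hom = 𝟙 _) (i' : T ⟶ C) [IsMonHom i'] (hi' : Red.IsMaximalTorus i')
    (hcen : ∀ (W : Over (Spec (CommRingCat.of k))) (g : W ⟶ C) (t : W ⟶ T), g * (t ≫ i') = (t ≫ i') * g)
    (a : Red.bc X.hom C ≅ Red.bc X.hom C) [IsMonHom a.hom]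
    (iX : Red.bc X.hom T ⟶ Red.bc X.hom C) (hiX : iX = (Over.pullback X.hom).map i')
    [Mono iX.left] [Mono (iX ≫ a.hom).left] :
    CentralEq.Good iX (iX ≫ a.hom) σ := by
  subst hiX
  rw [CentralEq.good_iff]
  let F := Over.pullback σ
  let α : Over.pullback X.hom ⋙ F ≅ 𝟭 _ := GrpBC.bcCongr X.hom σ (𝟙 _) hσ ≪≫ Over.pullbackId
  let βC : Red.bc σ (Red.bc X.hom C) ≅ C := α.app C
  let βT : Red.bc σ (Red.bc X.hom T) ≅ T := α.app T
  haveI hb : IsMonHom βC.hom := by
    have h1 := (GrpBC.isMonHom_app α C).1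
    exact ⟨h1.one_hom.trans (Category.id_comp _), h1.mul_hom.trans (congrArg (_ ≫ ·) (Category.id_comp _))⟩
  haveI : IsMonHom (F.map a.hom) := inferInstanceAs (IsMonHom ((Over.pullback σ).map a.hom))
  haveI : IsMonHom βC.inv := inferInstance
  let aσ : C ⟶ C := βC.inv ≫ F.map a.hom ≫ βC.hom
  haveI : IsMonHom aσ := inferInstance
  haveI : IsIso aσ := inferInstance
  obtain ⟨φ, hφ⟩ := MaxTorus26.exists_iso_of_central hi' (isMaximalTorus_comp_aut hi' aσ) hcen
  refine ⟨βT ≪≫ φ.symm ≪≫ βT.symm, ?_⟩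
  have hn : F.map ((Over.pullback X.hom).map i') = βT.hom ≫ i' ≫ βC.inv := by
    have h2 : F.map ((Over.pullback X.hom).map i') ≫ βC.hom = βT.hom ≫ i' := α.hom.naturality i'
    rw [← Category.assoc, ← h2, Category.assoc, Iso.hom_inv_id, Category.comp_id]
  have ha : βC.inv ≫ F.map a.hom = aσ ≫ βC.inv := by simp [aσ]
  show (βT.hom ≫ φ.inv ≫ βT.inv) ≫ F.map ((Over.pullback X.hom).map i' ≫ a.hom) = F.map ((Over.pullback X.hom).map i')
  rw [Functor.map_comp, hn]
  simp only [Category.assoc, Iso.inv_hom_id_assoc]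
  rw [ha, ← Category.assoc i', ← hφ]
  simp

/-- A point normalising the centraliser of a maximal torus normalises the torus. -/
theorem norm_torus [IsSeparated C.hom] [LocallyOfFiniteType C.hom] (c : C ⟶ G) [IsMonHom c] [Mono c]
    (i' : T ⟶ C) [IsMonHom i'] (hi' : Red.IsMaximalTorus i')
    (hcen : ∀ (W : Over (Spec (CommRingCat.of k))) (g : W ⟶ C) (t : W ⟶ T), g * (t ≫ i') = (t ≫ i') * g)
    [IsAlgClosed k] {X : Over (Spec (CommRingCat.of k))} [LocallyOfFiniteType X.hom] (g : X ⟶ G) (hg : Norm c g) :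
    Norm (i' ≫ c) g := by
  let CX := Red.bc X.hom C
  let P : Over (Spec (CommRingCat.of k)) := (Over.map X.hom).obj CX
  let π : P ⟶ X := Over.homMk CX.hom rfl
  let pr : P ⟶ C := (BCPoints.pt X.hom C CX).symm (𝟙 CX)
  obtain ⟨⟨h₁, hh₁⟩, ⟨h₂, hh₂⟩⟩ := hg P π pr
  -- points of the base change
  have hform : ∀ {W : Over X.left} (q : (Over.map X.hom).obj W ⟶ C),
      (Over.map X.hom).map (BCPoints.pt X.hom C W q) ≫ pr = q := fun {W} q => by
    apply (BCPoints.pt X.hom C W).injective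
    rw [BCPoints.pt_map_comp, Equiv.apply_symm_apply, Category.comp_id]
  have hπ : ∀ {W : Over X.left} (q : (Over.map X.hom).obj W ⟶ C),
      (Over.map X.hom).map (BCPoints.pt X.hom C W q) ≫ π = (Over.homMk W.hom rfl : (Over.map X.hom).obj W ⟶ X) := fun {W} q =>
    Over.OverMorphism.ext (Over.w (BCPoints.pt X.hom C W q))
  let a₁ : CX ⟶ CX := BCPoints.pt X.hom C CX h₁
  let a₂ : CX ⟶ CX := BCPoints.pt X.hom C CX h₂
  have hval : ∀ {W : Over X.left} (q : (Over.map X.hom).obj W ⟶ C),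
      ∃ (r₁ r₂ : (Over.map X.hom).obj W ⟶ C),
        BCPoints.pt X.hom C W q ≫ a₁ = BCPoints.pt X.hom C W r₁ ∧ BCPoints.pt X.hom C W q ≫ a₂ = BCPoints.pt X.hom C W r₂ ∧
        r₁ ≫ c = ((Over.homMk W.hom rfl : (Over.map X.hom).obj W ⟶ X) ≫ g) * (q ≫ c) * ((Over.homMk W.hom rfl : (Over.map X.hom).obj W ⟶ X) ≫ g)⁻¹ ∧
        r₂ ≫ c = ((Over.homMk W.hom rfl : (Over.map X.hom).obj W ⟶ X) ≫ g)⁻¹ * (q ≫ c) * ((Over.homMk W.hom rfl : (Over.map X.hom).obj W ⟶ X) ≫ g) := by
    intro W q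
    refine ⟨(Over.map X.hom).map (BCPoints.pt X.hom C W q) ≫ h₁, (Over.map X.hom).map (BCPoints.pt X.hom C W q) ≫ h₂,
      (BCPoints.pt_map_comp _ _ _).symm, (BCPoints.pt_map_comp _ _ _).symm, ?_, ?_⟩
    · rw [Category.assoc, ← hh₁]
      simp only [MonObj.comp_mul, GrpObj.comp_inv, ← Category.assoc, hform, hπ]
    · rw [Category.assoc, ← hh₂]
      simp only [MonObj.comp_mul, GrpObj.comp_inv, ← Category.assoc, hform, hπ]
  let a : CX ≅ CX :=
    { hom := a₁
      inv := a₂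
      hom_inv_id := by
        obtain ⟨q, hq⟩ := (BCPoints.pt X.hom C CX).surjective (𝟙 CX)
        obtain ⟨r₁, -, e₁, -, f₁, -⟩ := hval q
        obtain ⟨-, r₂, -, e₂, -, f₂⟩ := hval r₁
        rw [hq, Category.id_comp] at e₁
        rw [← e₁] at e₂
        rw [e₂, ← hq, EmbeddingLike.apply_eq_iff_eq, ← cancel_mono c, f₂, f₁]
        group
      inv_hom_id := by
        obtain ⟨q, hq⟩ := (BCPoints.pt X.hom C CX).surjective (𝟙 CX)
        obtain ⟨-, r₂, -, e₂, -, f₂⟩ := hval q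
        obtain ⟨r₁, -, e₁, -, f₁, -⟩ := hval r₂
        rw [hq, Category.id_comp] at e₂
        rw [← e₂] at e₁
        rw [e₁, ← hq, EmbeddingLike.apply_eq_iff_eq, ← cancel_mono c, f₁, f₂]
        group }
  haveI : IsMonHom a.hom := BCPoints.isMonHom_of_mul a₁ fun W x y => by
    obtain ⟨p, rfl⟩ := (BCPoints.pt X.hom C W).surjective x
    obtain ⟨q, rfl⟩ := (BCPoints.pt X.hom C W).surjective y
    obtain ⟨r, -, e, -, f, -⟩ := hval (p * q)
    obtain ⟨r₁, -, e₁, -, f₁, -⟩ := hval p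
    obtain ⟨r₂, -, e₂, -, f₂, -⟩ := hval q
    rw [← BCPoints.pt_mul, e, e₁, e₂, ← BCPoints.pt_mul, EmbeddingLike.apply_eq_iff_eq, ← cancel_mono c,
      MonObj.mul_comp, f, f₁, f₂, MonObj.mul_comp]
    group
  let iX : Red.bc X.hom T ⟶ CX := (Over.pullback X.hom).map i'
  haveI : IsMonHom iX := inferInstanceAs (IsMonHom ((Over.pullback X.hom).map i'))
  haveI : (Over.pullback X.hom).IsRightAdjoint := (Over.mapPullbackAdj _).isRightAdjoint
  haveI := hi'.2.1
  haveI : Mono iX := inferInstanceAs (Mono ((Over.pullback X.hom).map i'))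
  haveI : Mono iX.left := inferInstanceAs (Mono ((Over.forget _).map iX))
  haveI : IsIso a.hom := a.isIso_hom
  haveI : Mono (iX ≫ a.hom) := mono_comp _ _
  haveI : Mono (iX ≫ a.hom).left := inferInstanceAs (Mono ((Over.forget _).map (iX ≫ a.hom)))
  haveI : IsSeparated CX.hom := MorphismProperty.pullback_snd (P := @IsSeparated) _ _ inferInstance
  haveI : LocallyOfFiniteType CX.hom := MorphismProperty.pullback_snd (P := @LocallyOfFiniteType) _ _ inferInstance
  have hTm := CentralDescent.isMultTypeFT_bc X.hom T (MultExt26.isMultTypeFT_of_torus T hi'.2.2.1)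
  obtain ⟨U, -, hU, hgood⟩ := CentralEq.exists_clopen iX (iX ≫ a.hom) (Or.inr inferInstance) hTm hTm
    (fun W x h => (CentralHom.central_bc X.hom i' (fun W' t d => (hcen W' d t).symm) W h x).symm)
  haveI : JacobsonSpace X.left := LocallyOfFiniteType.jacobsonSpace X.hom
  have htop : U = ⊤ := by
    by_contra hne
    have hne' : ((U : Set X.left)ᶜ).Nonempty := by
      rw [Set.nonempty_compl]; exact fun h => hne (TopologicalSpace.Opens.coe_eq_univ.mp h)
    obtain ⟨x, hx, hxc⟩ := nonempty_inter_closedPoints hne' U.2.isClosed_compl.isLocallyClosed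
    let ρ : 𝟙_ (Over (Spec (CommRingCat.of k))) ⟶ X :=
      Over.homMk (pointOfClosedPoint X.hom x hxc) (pointOfClosedPoint_comp X.hom x hxc)
    have hρ : ρ.left.base (IsLocalRing.closedPoint k) = x := pointOfClosedPoint_apply X.hom x hxc _
    have hgd := good_closed (X := X) ρ.left (Over.w ρ) i' hi' hcen a iX rfl
    have h := (CentralEq.good_field iX (iX ≫ a.hom) ρ.left (IsLocalRing.closedPoint k)).1 hgd
    rw [hρ] at h
    exact hx ((hU x).2 h)
  subst htop
  have h1 : CentralEq.Good iX (iX ≫ a.hom) (𝟙 X.left) := hgood.of_comp (k := X.left.topIso.inv) (hk := by simp)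
  obtain ⟨ψ, hψ⟩ := (CentralEq.good_iff iX (iX ≫ a.hom) _).1 h1
  let α : Over.pullback (𝟙 X.left) ≅ 𝟭 (Over X.left) := Over.pullbackId
  let φ : Red.bc X.hom T ≅ Red.bc X.hom T := (α.app _).symm ≪≫ ψ ≪≫ α.app _
  have hφ : φ.hom ≫ iX ≫ a.hom = iX := by
    show (α.inv.app _ ≫ ψ.hom ≫ α.hom.app _) ≫ (iX ≫ a.hom) = iX
    have h2 : α.hom.app _ ≫ (iX ≫ a.hom) = (Over.pullback (𝟙 X.left)).map (iX ≫ a.hom) ≫ α.hom.app _ :=
      (α.hom.naturality (iX ≫ a.hom)).symm
    rw [Category.assoc, Category.assoc]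
    erw [h2, reassoc_of% hψ]
    rw [α.hom.naturality iX]
    simp
  have hφ' : φ.inv ≫ iX = iX ≫ a.hom := by rw [Iso.inv_comp_eq, hφ]
  have hφ'' : φ.hom ≫ iX = iX ≫ a.inv := by rw [Iso.eq_comp_inv, Category.assoc, hφ]
  intro X' x h
  let W : Over X.left := Over.mk x.left
  let e : X' ≅ (Over.map X.hom).obj W := Over.isoMk (Iso.refl _) (by
    show 𝟙 X'.left ≫ x.left ≫ X.hom = X'.hom
    rw [Category.id_comp, Over.w x])
  have hx : e.inv ≫ x = (Over.homMk W.hom rfl : (Over.map X.hom).obj W ⟶ X) :=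
    Over.OverMorphism.ext (Category.id_comp x.left)
  obtain ⟨r₁, r₂, e₁, e₂, f₁, f₂⟩ := hval ((e.inv ≫ h) ≫ i')
  rw [BCPoints.pt_comp] at e₁ e₂
  constructor
  · obtain ⟨t, ht⟩ := (BCPoints.pt X.hom T W).surjective (BCPoints.pt X.hom T W (e.inv ≫ h) ≫ φ.inv)
    have h3 : t ≫ i' = r₁ := (BCPoints.pt X.hom C W).injective (by
      rw [BCPoints.pt_comp, ht, Category.assoc, ← e₁, Category.assoc]
      exact congrArg (_ ≫ ·) hφ')
    refine ⟨e.hom ≫ t, ?_⟩
    rw [Category.assoc, ← Category.assoc t, h3, f₁]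
    simp only [MonObj.comp_mul, GrpObj.comp_inv, ← Category.assoc, ← hx, Iso.hom_inv_id, Category.id_comp]
  · obtain ⟨t, ht⟩ := (BCPoints.pt X.hom T W).surjective (BCPoints.pt X.hom T W (e.inv ≫ h) ≫ φ.hom)
    have h3 : t ≫ i' = r₂ := (BCPoints.pt X.hom C W).injective (by
      rw [BCPoints.pt_comp, ht, Category.assoc, ← e₂, Category.assoc]
      exact congrArg (_ ≫ ·) hφ'')
    refine ⟨e.hom ≫ t, ?_⟩
    rw [Category.assoc, ← Category.assoc t, h3, f₂]
    simp only [MonObj.comp_mul, GrpObj.comp_inv, ← Category.assoc, ← hx, Iso.hom_inv_id, Category.id_comp]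

omit [GrpObj C] in
/-- A point normalising a subgroup normalises its centraliser. -/
theorem norm_centralizer [GrpObj C] (i : T ⟶ G) (c : C ⟶ G) (hC : Red.IsCentralizerOf i c)
    {X : Over (Spec (CommRingCat.of k))} (g : X ⟶ G) (hg : Norm i g) : Norm c g := by
  obtain ⟨-, -, hpts⟩ := hC
  intro X' x z
  have hz := (hpts X' (z ≫ c)).1 ⟨z, rfl⟩
  constructor
  · obtain ⟨w, hw⟩ := (hpts X' ((x ≫ g) * (z ≫ c) * (x ≫ g)⁻¹)).2 fun X'' y t => by
      obtain ⟨t', ht'⟩ := (hg X'' (y ≫ x) t).2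
      have h2 := hz X'' y t'
      rw [← ht', Category.assoc] at h2
      simp only [MonObj.comp_mul, GrpObj.comp_inv]
      calc _ = (y ≫ x ≫ g) * ((y ≫ z ≫ c) * ((y ≫ x ≫ g)⁻¹ * (t ≫ i) * (y ≫ x ≫ g))) * (y ≫ x ≫ g)⁻¹ := by group
        _ = _ := by rw [h2]; group
    exact ⟨w, hw.symm⟩
  · obtain ⟨w, hw⟩ := (hpts X' ((x ≫ g)⁻¹ * (z ≫ c) * (x ≫ g))).2 fun X'' y t => by
      obtain ⟨t', ht'⟩ := (hg X'' (y ≫ x) t).1
      have h2 := hz X'' y t'
      rw [← ht', Category.assoc] at h2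
      simp only [MonObj.comp_mul, GrpObj.comp_inv]
      calc _ = (y ≫ x ≫ g)⁻¹ * ((y ≫ z ≫ c) * ((y ≫ x ≫ g) * (t ≫ i) * (y ≫ x ≫ g)⁻¹)) * (y ≫ x ≫ g) := by group
        _ = _ := by rw [h2]; group
    exact ⟨w, hw.symm⟩

/-- Both normalising conditions agree. -/
theorem norm_iff [IsAlgClosed k] [Smooth G.hom] [QuasiCompact G.hom] (i : T ⟶ G) (hT : Red.IsMaximalTorus i)
    (c : C ⟶ G) (hC : Red.IsCentralizerOf i c) {X : Over (Spec (CommRingCat.of k))} (g : X ⟶ G) :
    Norm c g ↔ Norm i g := by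
  refine ⟨fun hg => ?_, norm_centralizer i c hC g⟩
  obtain ⟨hi, him, hTt, hmax⟩ := hT
  haveI := hi; haveI := him
  haveI : IsSeparated G.hom := SGA3xLib.isSeparated_of_grpObj G
  have hTm := MultExt26.isMultTypeFT_of_torus T hTt
  obtain ⟨Z, _, j, hj, hjcl, -⟩ := MTTransporter.exists_centralizer i (CentralFib.locally_of_multTypeFT hTm)
  obtain ⟨hc, hcm, hpts⟩ := id hC
  haveI := hc; haveI := hcm; haveI := hjcl
  haveI := hj.2.1
  obtain ⟨a, ha⟩ := (hj.2.2 C c).2 ((hpts C c).1 ⟨𝟙 C, Category.id_comp c⟩)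
  obtain ⟨b, hb⟩ := (hpts Z j).2 ((hj.2.2 Z j).1 ⟨𝟙 Z, Category.id_comp j⟩)
  haveI : IsIso a := ⟨b, by rw [← cancel_mono c, Category.assoc, hb, ha, Category.id_comp],
    by rw [← cancel_mono j, Category.assoc, ha, hb, Category.id_comp]⟩
  haveI : IsClosedImmersion c.left := by
    rw [← ha, Over.comp_left]
    haveI : IsIso a.left := inferInstanceAs (IsIso ((Over.forget _).map a))
    exact MorphismProperty.comp_mem @IsClosedImmersion _ _ inferInstance hjcl
  haveI : IsSeparated C.hom := by rw [← Over.w c]; infer_instance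
  haveI : LocallyOfFiniteType C.hom := by rw [← Over.w c]; infer_instance
  obtain ⟨i', hi'⟩ := (hpts T i).2 fun X' x h => by
    rw [← MonObj.mul_comp, ← MonObj.mul_comp, IsoTriv.mul_comm_of_multTypeFT hTm]
  haveI : Mono i' := by
    haveI : Mono (i' ≫ c) := hi'.symm ▸ him
    exact mono_of_mono i' c
  haveI : IsMonHom i' := BCPoints.isMonHom_of_mul i' fun X x y => by
    rw [← cancel_mono c]; simp only [MonObj.mul_comp, Category.assoc, hi']
  have hi'max : Red.IsMaximalTorus i' := by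
    refine ⟨inferInstance, inferInstance, hTt, fun s T' _ j _ _ f hT' hfj => ?_⟩
    haveI : (Over.pullback (Red.geomPt s)).IsRightAdjoint := (Over.mapPullbackAdj _).isRightAdjoint
    let c₀ : Red.geomFibre s C ⟶ Red.geomFibre s G := (Over.pullback (Red.geomPt s)).map c
    haveI : IsMonHom c₀ := inferInstanceAs (IsMonHom ((Over.pullback (Red.geomPt s)).map c))
    haveI : Mono c₀ := inferInstanceAs (Mono ((Over.pullback (Red.geomPt s)).map c))
    exact hmax s T' (j ≫ c₀) f hT' (by rw [← Category.assoc, hfj, ← Functor.map_comp, hi'])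
  have hcen : ∀ (W : Over (Spec (CommRingCat.of k))) (g : W ⟶ C) (t : W ⟶ T), g * (t ≫ i') = (t ≫ i') * g :=
    fun W g t => by
      rw [← cancel_mono c, MonObj.mul_comp, MonObj.mul_comp, Category.assoc, hi']
      have h := (hpts W (g ≫ c)).1 ⟨g, rfl⟩ W (𝟙 W) t
      rwa [Category.id_comp] at h
  haveI : IsImmersion c.left := inferInstance
  obtain ⟨N, _, n, hn, hN⟩ := ConjTransporter.exists_normalizer c
  haveI := hn
  haveI : LocallyOfFiniteType N.hom := by rw [← Over.w n]; infer_instance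
  obtain ⟨z, hz⟩ := (hN.2.2 X g).2 hg
  have key := norm_torus c i' hi'max hcen n ((hN.2.2 N n).1 ⟨𝟙 N, Category.id_comp n⟩)
  rw [hi'] at key
  intro X' x h
  rw [← hz, ← Category.assoc]
  exact key X' (x ≫ z) h

end Groth.Agent.ConjConst26.NormCartan
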