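import Groth.Agent.ConjConst26.AffineQuot
import Groth.Agent.SGA3cLib.MTNormalizer
import Groth.Agent.FlatMorWeight.Chevalley
import Groth.Agent.Et18.Descent

/-! The quotient of a smooth affine group over a field by the normalizer of a subgroup of multiplicative type is
affine: it is a finite image of the quotient by the centralizer. -/

set_option linter.style.haveILetI false
set_option autoImplicit false
set_option backward.isDefEq.respectTransparency.types false

universe u

open CategoryTheory CategoryTheory.Limits MonoidalCategory CartesianMonoidalCategory MonObj GrpObj AlgebraicGeometry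

noncomputable section

namespace Groth.Agent.ConjConst26

open SGA3cLib

variable {k : Type u} [Field k]

set_option maxHeartbeats 1000000 in
/-- An open subgroup of an affine algebraic group has finitely many translates covering it. -/
theorem exists_finite_translates {N C : Over (Spec (CommRingCat.of k))} [GrpObj N] [IsAffine N.left]
    [LocallyOfFiniteType N.hom] (f : C ⟶ N) [IsOpenImmersion f.left] (hone : ∀ Z : Over _, ∃ e : Z ⟶ C, e ≫ f = 1) :
    ∃ (Z : Over (Spec (CommRingCat.of k))) (i : Z ⟶ N), IsFinite Z.hom ∧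
      Surjective ((fst Z C ≫ i) * (snd Z C ≫ f)).left := by
  let sub : ∀ F : TopologicalSpace.Closeds N.left, Over (Spec (CommRingCat.of k)) := fun F =>
    Over.mk ((Scheme.IdealSheafData.vanishingIdeal F).subschemeι ≫ N.hom)
  let inc : ∀ F, sub F ⟶ N := fun F => Over.homMk (Scheme.IdealSheafData.vanishingIdeal F).subschemeι rfl
  have hinc : ∀ F, Set.range (inc F).left.base = (F : Set N.left) := fun F => by
    show Set.range (Scheme.IdealSheafData.vanishingIdeal F).subschemeι.base = _
    rw [Scheme.IdealSheafData.range_subschemeι, Scheme.IdealSheafData.coe_support_vanishingIdeal]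
  let mu : ∀ F, sub F ⊗ C ⟶ N := fun F => (fst _ _ ≫ inc F) * (snd _ _ ≫ f)
  let W : TopologicalSpace.Closeds N.left → Set N.left := fun F => Set.range (mu F).left.base
  have hWopen : ∀ F, IsOpen (W F) := by
    intro F
    let sh : sub F ⊗ N ≅ sub F ⊗ N :=
      ⟨lift (fst _ _) ((fst _ _ ≫ inc F) * snd _ _), lift (fst _ _) ((fst _ _ ≫ inc F)⁻¹ * snd _ _), by
        apply CartesianMonoidalCategory.hom_ext <;> simp [MonObj.comp_mul, GrpObj.comp_inv], by
        apply CartesianMonoidalCategory.hom_ext <;> simp [MonObj.comp_mul, GrpObj.comp_inv]⟩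
    have e : mu F = (sub F ◁ f) ≫ sh.hom ≫ snd _ _ := by
      simp [mu, sh, MonObj.comp_mul]
    haveI : IsIso sh.hom := sh.isIso_hom
    haveI : IsIso sh.hom.left := inferInstanceAs (IsIso ((Over.forget _).map sh.hom))
    haveI : UniversallyOpen (snd (sub F) N).left := UniversallyOpen.snd (sub F).hom N.hom
    haveI : IsOpenImmersion (sub F ◁ f).left := by
      rw [Over.whiskerLeft_left]
      infer_instance
    haveI : UniversallyOpen (mu F).left := by
      rw [e, Over.comp_left, Over.comp_left]
      infer_instance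
    exact (mu F).left.isOpenMap.isOpen_range
  have hsubW : ∀ F : TopologicalSpace.Closeds N.left, (F : Set N.left) ⊆ W F := by
    intro F x hx
    obtain ⟨y, rfl⟩ := (hinc F).ge hx
    obtain ⟨e, he⟩ := hone (sub F)
    refine ⟨(lift (𝟙 _) e).left.base y, ?_⟩
    have h : lift (𝟙 _) e ≫ mu F = inc F := by simp [mu, MonObj.comp_mul, he]
    exact congrArg (fun r : sub F ⟶ N => r.left.base y) h
  have hmonoW : ∀ F F' : TopologicalSpace.Closeds N.left, F ≤ F' → W F ⊆ W F' := by
    intro F F' h
    let r : sub F ⟶ sub F' := Over.homMk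
      (Scheme.IdealSheafData.inclusion (Scheme.IdealSheafData.vanishingIdeal_antimono h)) (by
        show _ ≫ _ ≫ N.hom = _ ≫ N.hom
        rw [Scheme.IdealSheafData.inclusion_subschemeι_assoc])
    have hr : r ≫ inc F' = inc F := Over.OverMorphism.ext (Scheme.IdealSheafData.inclusion_subschemeι _)
    have e : (r ▷ C) ≫ mu F' = mu F := by simp [mu, MonObj.comp_mul, hr]
    rintro _ ⟨y, rfl⟩
    exact ⟨(r ▷ C).left.base y, congrArg (fun q : sub F ⊗ C ⟶ N => q.left.base y) e⟩
  haveI : CompactSpace N.left := inferInstance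
  let pts := {z : N.left // IsClosed ({z} : Set N.left)}
  have hcov : (Set.univ : Set N.left) ⊆ ⋃ z : pts, W ⟨{z.1}, z.2⟩ := by
    intro x _
    obtain ⟨z, hzx, hz⟩ := IsClosed.exists_closed_singleton (isClosed_closure (s := ({x} : Set N.left)))
      (Set.singleton_nonempty x).closure
    refine Set.mem_iUnion.2 ⟨⟨z, hz⟩, ?_⟩
    exact (specializes_iff_mem_closure.2 hzx).mem_open (hWopen _) (hsubW _ rfl)
  obtain ⟨t, ht⟩ := isCompact_univ.elim_finite_subcover (fun z : pts => W ⟨{z.1}, z.2⟩) (fun z => hWopen _) hcov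
  let F : TopologicalSpace.Closeds N.left :=
    ⟨⋃ z ∈ t, {z.1}, t.finite_toSet.isClosed_biUnion fun z _ => z.2⟩
  refine ⟨sub F, inc F, ?_, ⟨fun x => ?_⟩⟩
  · haveI : IsClosedImmersion (inc F).left :=
      inferInstanceAs (IsClosedImmersion (Scheme.IdealSheafData.vanishingIdeal F).subschemeι)
    haveI : IsAffine (sub F).left := isAffine_of_isAffineHom (inc F).left
    haveI : LocallyOfFiniteType (sub F).hom := by rw [← Over.w (inc F)]; infer_instance
    haveI : Finite (sub F).left := by
      have hfin : (F : Set N.left).Finite := t.finite_toSet.biUnion fun z _ => Set.finite_singleton _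
      haveI := hfin.to_subtype
      refine Finite.of_injective (fun y => (⟨(inc F).left.base y, (hinc F).le ⟨y, rfl⟩⟩ : (F : Set N.left))) ?_
      intro a b h
      exact (inc F).left.isClosedEmbedding.injective (congrArg Subtype.val h)
    haveI : LocallyQuasiFinite (sub F).hom := .of_finite_preimage_singleton _ fun _ => Set.toFinite _
    haveI : QuasiCompact (sub F).hom := inferInstance
    exact IsFinite.of_locallyQuasiFinite _
  · obtain ⟨z, hz, hx⟩ := Set.mem_iUnion₂.1 (ht (Set.mem_univ x))
    exact hmonoW _ F (fun y hy => Set.mem_biUnion hz hy) hx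

set_option maxHeartbeats 1000000 in
/-- The quotient by the normalizer of a subgroup of multiplicative type is affine. -/
theorem isAffine_quotient_normalizer {G H N C : Over (Spec (CommRingCat.of k))} [GrpObj G] [GrpObj H] [GrpObj N]
    [GrpObj C] [IsAffine G.left] [Smooth G.hom] (hH : SGA3x.IsMultTypeFT H) (h : H ⟶ G) [IsMonHom h] [Mono h]
    (c : C ⟶ G) (hC : Red.IsCentralizerOf h c) (n : N ⟶ G) (hN : Red.IsNormalizerOf h n)
    (Q : Over (Spec (CommRingCat.of k))) (q : G ⟶ Q) (hq : RedSub.IsQuotient n q) : IsAffine Q.left := by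
  haveI : IsAffineHom G.hom := inferInstance
  obtain ⟨f, hf, hfo, -⟩ := MTNormalizer.centralizer_openClosed h hH c n hC hN
  haveI := hfo
  obtain ⟨N', _, n', hn', hn'c, -⟩ := MTNormalizer.exists_normalizer h hH
  haveI := hN.1
  haveI := hN.2.1
  haveI := hn'.2.1
  haveI := hn'c
  obtain ⟨eN, heN⟩ : ∃ e : N ≅ N', e.hom ≫ n' = n := by
    obtain ⟨a, ha⟩ := (hn'.2.2 N n).2 ((hN.2.2 N n).1 ⟨𝟙 _, Category.id_comp _⟩)
    obtain ⟨b, hb⟩ := (hN.2.2 N' n').2 ((hn'.2.2 N' n').1 ⟨𝟙 _, Category.id_comp _⟩)
    exact ⟨⟨a, b, by rw [← cancel_mono n, Category.assoc, hb, ha, Category.id_comp],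
      by rw [← cancel_mono n', Category.assoc, ha, hb, Category.id_comp]⟩, ha⟩
  haveI : IsIso eN.hom.left := inferInstanceAs (IsIso ((Over.forget _).map eN.hom))
  haveI : IsClosedImmersion n.left := by rw [← heN, Over.comp_left]; infer_instance
  haveI : IsAffine N.left := isAffine_of_isAffineHom n.left
  haveI : LocallyOfFiniteType N.hom := by rw [← Over.w n]; infer_instance
  obtain ⟨Z, i, hZ, hsurj⟩ := exists_finite_translates f (fun Z => by
    obtain ⟨e, he⟩ := (hC.2.2 Z 1).2 fun X' x y => by simp
    exact ⟨e, by rw [← cancel_mono n, Category.assoc, hf, he, MonObj.one_comp]⟩)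
  haveI := hZ
  obtain ⟨U, o, hU, hUft, hos, hom, hrel⟩ := exists_centralizer_orbit hH h c hC
  haveI := hU
  haveI := hUft
  haveI := hos
  haveI := hom
  obtain ⟨hqs, hqf, hqp, -⟩ := id hq
  haveI := hqs
  haveI := hqf
  haveI := hqp
  have hcond : ∀ {W : Scheme.{u}} (g₁ g₂ : W ⟶ G.left), g₁ ≫ o.left = g₂ ≫ o.left → g₁ ≫ q.left = g₂ ≫ q.left := by
    intro W g₁ g₂ e
    let W' : Over (Spec (CommRingCat.of k)) := Over.mk (g₁ ≫ G.hom)
    let a : W' ⟶ G := Over.homMk g₁ rfl
    let b : W' ⟶ G := Over.homMk g₂ (by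
      show g₂ ≫ G.hom = g₁ ≫ G.hom
      rw [← Over.w o, ← Category.assoc, ← e, Category.assoc])
    have hab : a ≫ o = b ≫ o := by ext; exact e
    obtain ⟨z, hz⟩ := (hrel a b).2 hab
    exact congrArg (fun r : W' ⟶ Q => r.left) ((comp_eq_iff_of_quotient hq a b).2
      ⟨z ≫ f, by rw [Category.assoc, hf, hz]⟩)
  let m : U.left ⟶ Q.left := EffectiveEpi.desc o.left q.left hcond
  have hom' : o.left ≫ m = q.left := EffectiveEpi.fac _ _ _
  have hmw : m ≫ Q.hom = U.hom := by
    rw [← cancel_epi o.left, ← Category.assoc, hom', Over.w q, Over.w o]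
  haveI : LocallyOfFiniteType (m ≫ Q.hom) := by rw [hmw]; infer_instance
  haveI : LocallyOfFiniteType m := locallyOfFiniteType_of_comp m Q.hom
  haveI : IsSeparated U.hom := inferInstance
  haveI : IsSeparated (m ≫ Q.hom) := by rw [hmw]; infer_instance
  haveI : IsSeparated m := IsSeparated.of_comp m Q.hom
  haveI : Surjective m := by
    haveI : Surjective (o.left ≫ m) := by rw [hom']; infer_instance
    exact Surjective.of_comp o.left m
  -- the base change of `m` along `q`
  let P : Over (Spec (CommRingCat.of k)) := Over.mk (pullback.fst q.left m ≫ G.hom)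
  let mkP : ∀ {W : Over (Spec (CommRingCat.of k))} (a b : W ⟶ G), a ≫ q = b ≫ q → (W.left ⟶ P.left) := fun a b e =>
    pullback.lift a.left (b ≫ o).left (by
      rw [Over.comp_left, Category.assoc, hom']
      exact congrArg (fun r : _ ⟶ Q => r.left) e)
  let aσ : G ⊗ Z ⟶ G := fst G Z
  let bσ : G ⊗ Z ⟶ G := fst G Z * (snd G Z ≫ i ≫ n)
  have hσ : aσ ≫ q = bσ ≫ q := (comp_eq_iff_of_quotient hq _ _).2 ⟨snd G Z ≫ i, by rw [Category.assoc]⟩
  let σ := mkP aσ bσ hσ
  haveI hσs : Surjective σ := by
    refine ⟨fun p => ?_⟩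
    let W : Over (Spec (CommRingCat.of k)) :=
      Over.mk (pullback.fst (pullback.snd q.left m) o.left ≫ P.hom)
    let a : W ⟶ G := Over.homMk (pullback.fst _ _ ≫ pullback.fst q.left m) (Category.assoc _ _ _)
    let b : W ⟶ G := Over.homMk (pullback.snd _ _) (by
      show pullback.snd _ _ ≫ G.hom = pullback.fst _ _ ≫ pullback.fst q.left m ≫ G.hom
      rw [← Over.w o, ← pullback.condition_assoc, ← hmw, reassoc_of% hom', pullback.condition_assoc (f := q.left)])
    have e : a ≫ q = b ≫ q := by
      ext
      show (pullback.fst _ _ ≫ pullback.fst q.left m) ≫ q.left = pullback.snd _ _ ≫ q.left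
      rw [Category.assoc, pullback.condition, ← hom', pullback.condition_assoc]
    obtain ⟨z, hz⟩ := (comp_eq_iff_of_quotient hq a b).1 e
    obtain ⟨w, hw⟩ := (pullback.fst (pullback.snd q.left m) o.left).surjective p
    -- lift the coset representative through the translates
    let R : Over (Spec (CommRingCat.of k)) :=
      Over.mk (pullback.fst z.left ((fst Z C ≫ i) * (snd Z C ≫ f)).left ≫ W.hom)
    let rW : R ⟶ W := Over.homMk (pullback.fst _ _) rfl
    let rY : R ⟶ Z ⊗ C := Over.homMk (pullback.snd _ _) (by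
      show pullback.snd _ _ ≫ (Z ⊗ C).hom = pullback.fst _ _ ≫ W.hom
      rw [← Over.w z, ← Over.w ((fst Z C ≫ i) * (snd Z C ≫ f)), pullback.condition_assoc])
    have hR : rW ≫ z = rY ≫ ((fst Z C ≫ i) * (snd Z C ≫ f)) := by ext; exact pullback.condition
    obtain ⟨r, hr⟩ := (pullback.fst z.left ((fst Z C ≫ i) * (snd Z C ≫ f)).left).surjective w
    let v : R ⟶ G ⊗ Z := lift (rW ≫ a) (rY ≫ fst Z C)
    refine ⟨v.left.base r, ?_⟩
    have key : v.left ≫ σ = rW.left ≫ pullback.fst (pullback.snd q.left m) o.left := by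
      apply pullback.hom_ext
      · show (v.left ≫ σ) ≫ pullback.fst q.left m = _
        rw [Category.assoc, Category.assoc, show σ ≫ pullback.fst q.left m = aσ.left from pullback.lift_fst _ _ _]
        exact congrArg (fun x : R ⟶ G => x.left) (lift_fst (rW ≫ a) (rY ≫ fst Z C))
      · rw [Category.assoc, Category.assoc, show σ ≫ pullback.snd q.left m = (bσ ≫ o).left from pullback.lift_snd _ _ _,
          pullback.condition]
        have hb : (v ≫ bσ) ≫ o = (rW ≫ b) ≫ o := by
          rw [← hrel, ← hz]
          refine ⟨rY ≫ snd Z C, ?_⟩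
          simp only [v, bσ, MonObj.comp_mul, lift_fst, lift_snd_assoc, _root_.mul_assoc]
          congr 1
          rw [← Category.assoc rW z n, hR, Category.assoc rY ((fst Z C ≫ i) * (snd Z C ≫ f)) n,
            MonObj.mul_comp _ _ n, MonObj.comp_mul]
          simp only [Category.assoc, hf]
        exact (congrArg (fun x : R ⟶ U => x.left) ((Category.assoc v bσ o).symm.trans hb))
    have := congrArg (fun x : R.left ⟶ P.left => x.base r) key
    refine this.trans ?_
    show (pullback.fst (pullback.snd q.left m) o.left).base (rW.left.base r) = p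
    rw [show rW.left.base r = w from hr]
    exact hw
  have hσf : σ ≫ pullback.fst q.left m = (fst G Z).left := pullback.lift_fst _ _ _
  haveI : IsFinite (fst G Z).left := MorphismProperty.pullback_fst (P := @IsFinite) G.hom Z.hom hZ
  haveI : IsFinite (σ ≫ pullback.fst q.left m) := by rw [hσf]; infer_instance
  haveI : UniversallyClosed (pullback.fst q.left m) := UniversallyClosed.of_comp_surjective σ _
  haveI : IsProper (pullback.fst q.left m) := { }
  haveI : LocallyQuasiFinite (pullback.fst q.left m) := .of_finite_preimage_singleton _ fun x => by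
    refine ((σ ≫ pullback.fst q.left m).finite_preimage_singleton x).image σ.base |>.subset fun y hy => ?_
    obtain ⟨s, rfl⟩ := σ.surjective y
    exact ⟨s, hy, rfl⟩
  haveI : IsFinite (pullback.fst q.left m) := IsFinite.of_isProper_of_locallyQuasiFinite _
  haveI := Et18.descends_isFinite.{u}
  haveI : IsFinite m := MorphismProperty.of_pullback_fst_of_descendsAlong (P := @IsFinite)
    (Q := @Surjective ⊓ @Flat ⊓ @LocallyOfFinitePresentation) ⟨⟨hqs, hqf⟩, hqp⟩ inferInstance
  haveI : CompactSpace Q.left := m.surjective.compactSpace m.continuous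
  haveI : QuasiSeparatedSpace Q.left := ⟨fun V₁ V₂ h₁ h₁' h₂ h₂' => by
    rw [← Set.image_preimage_eq (V₁ ∩ V₂) m.surjective]
    refine IsCompact.image ?_ m.continuous
    rw [Set.preimage_inter]
    exact QuasiSeparatedSpace.inter_isCompact _ _ (h₁.preimage m.continuous) (QuasiCompact.isCompact_preimage _ h₁ h₁')
      (h₂.preimage m.continuous) (QuasiCompact.isCompact_preimage _ h₂ h₂')⟩
  exact FlatMorWeight.isAffine_of_finite_surjective m

end Groth.Agent.ConjConst26
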