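import Groth.Agent.ConjConst26.MaxTorusConj
import Groth.Agent.IsoTriv.SchemeBridge
import Groth.Agent.IsoTriv.SchemeLocal
import Groth.Agent.IsoTriv.QuasiIso
import Groth.Agent.SGA3cLib.HomDS
import Groth.Agent.SGA3cLib.MTConjEtale
import Groth.Agent.Cochar26.Factor

/-! Maximal tori of a smooth separated group scheme are conjugate locally for the etale topology. -/

set_option linter.style.haveILetI false
set_option autoImplicit false
set_option backward.isDefEq.respectTransparency.types false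

universe u

open CategoryTheory CategoryTheory.Limits MonoidalCategory CartesianMonoidalCategory MonObj GrpObj AlgebraicGeometry
open scoped TensorProduct

noncomputable section

namespace Groth.Agent.ConjConst26.ToriEtale

open SGA3cLib Groth.Agent.IsoTriv CoactBr Groth.Agent.HopfLib.SpPoints
open MTTransporterSub (Contain)

set_option maxHeartbeats 2000000

variable {S : Scheme.{u}}

/-- A group of multiplicative type and finite type is diagonalisable etale-locally. -/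
theorem exists_split (H : Over S) [GrpObj H] (hH : SGA3x.IsMultTypeFT H) (s : S) :
    ∃ (U : Scheme.{u}) (q : U ⟶ S), Etale q ∧ s ∈ Set.range q.base ∧
      ∃ (M : Type) (_ : AddCommGroup M), AddGroup.FG M ∧ Nonempty (Grp.mk (Red.bc q H) ≅ Grp.mk (Red.DS U M)) := by
  obtain ⟨V, hV, hsV, -⟩ := exists_isAffineOpen_mem_and_subset (U := (⊤ : S.Opens)) (x := s) trivial
  let R : CommRingCat.{u} := Γ(S, V)
  let g : Spec (CommRingCat.of R) ⟶ S := hV.fromSpec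
  obtain ⟨A, _, _, hft, hA, ⟨e⟩⟩ := SchemeBridge.exists_hopf (Red.bc g H) (CentralDescent.isMultTypeFT_bc g H hH)
  obtain ⟨p, hp⟩ : s ∈ Set.range g.base := by
    show s ∈ Set.range hV.fromSpec
    rw [hV.range_fromSpec]; exact hsV
  haveI : (p : PrimeSpectrum R).asIdeal.IsPrime := (p : PrimeSpectrum R).2
  obtain ⟨P, _, _, het, ⟨x, hx, hxp⟩, N, hNg, ⟨eP⟩⟩ := exists_etale_nhd_of_isMultType hft hA (p : PrimeSpectrum R).asIdeal
  haveI := het
  haveI : Nontrivial P := nontrivial_iff.mpr ⟨0, 1, fun h => hx.ne_top ((Ideal.eq_top_iff_one _).mpr (h ▸ zero_mem _))⟩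
  haveI := hft
  have : Algebra.FiniteType P (MonoidAlgebra P N) :=
    (inferInstance : Algebra.FiniteType P (P ⊗[R] A)).equiv eP.toAlgEquiv
  have hfg : Monoid.FG N := MonoidAlgebra.finiteType_iff_fg.mp this
  have : Countable N := by
    obtain ⟨F, hF⟩ := hfg.fg_top
    have h1 : Set.Countable (Submonoid.closure (F : Set N) : Set N) := by
      rw [Submonoid.closure_eq_mrange, MonoidHom.coe_mrange]
      have : Countable (FreeMonoid (F : Set N)) := FreeMonoid.toList.countable_iff.mpr inferInstance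
      exact Set.countable_range _
    rw [hF] at h1
    exact Set.countable_univ_iff.mp h1
  let M : Type := Additive (Shrink.{0} N)
  have hM : AddGroup.FG M := by
    have : Monoid.FG (Shrink.{0} N) := Monoid.fg_of_surjective (equivShrink.{0} N).symm.mulEquiv.symm.toMonoidHom
      (equivShrink.{0} N).symm.mulEquiv.symm.surjective
    exact AddGroup.fg_iff_mul_fg.mpr (Group.fg_iff_monoid_fg.mpr this)
  let eN : N ≃* Multiplicative M := (equivShrink.{0} N).symm.mulEquiv.symm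
  obtain ⟨d⟩ := SchemeSpec.nonempty_DS_of_triv A P (M := M)
    (eP.trans (MonoidAlgebra.domCongrBialgEquiv (R := P) (A := P) eN))
  obtain ⟨b⟩ := SchemeLocal.nonempty_bc_comp g (Groth.Agent.HopfLib.SpPoints.str R P) (Groth.Agent.HopfLib.SpPoints.str R P ≫ g) rfl H
  obtain ⟨c⟩ := SchemeSpec.nonempty_bc_congr (Groth.Agent.HopfLib.SpPoints.str R P) e
  haveI : Etale (Groth.Agent.HopfLib.SpPoints.str R P) := by
    show Etale (Spec.map _)
    rw [HasRingHomProperty.Spec_iff (P := @Etale), CommRingCat.hom_ofHom, RingHom.etale_algebraMap]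
    exact het
  refine ⟨_, Groth.Agent.HopfLib.SpPoints.str R P ≫ g, inferInstance, ⟨(⟨x, hx⟩ : PrimeSpectrum P), ?_⟩, M, inferInstance, hM, ⟨b.symm ≪≫ c ≪≫ d⟩⟩
  rw [Scheme.Hom.comp_apply, ← hp]
  congr 1
  exact PrimeSpectrum.ext hxp

/-- Two groups of multiplicative type are diagonalisable on a common etale neighbourhood. -/
theorem exists_split₂ (H₁ H₂ : Over S) [GrpObj H₁] [GrpObj H₂] (h₁ : SGA3x.IsMultTypeFT H₁)
    (h₂ : SGA3x.IsMultTypeFT H₂) (s : S) :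
    ∃ (U : Scheme.{u}) (q : U ⟶ S), Etale q ∧ s ∈ Set.range q.base ∧
      ∃ (M N : Type) (_ : AddCommGroup M) (_ : AddCommGroup N), AddGroup.FG M ∧ AddGroup.FG N ∧
        ∃ (e : Red.bc q H₁ ≅ Red.DS U M) (d : Red.bc q H₂ ≅ Red.DS U N), IsMonHom e.hom ∧ IsMonHom d.hom := by
  obtain ⟨U₁, q₁, hq₁, ⟨u₁, rfl⟩, M, _, hM, ⟨e⟩⟩ := exists_split H₁ h₁ s
  obtain ⟨U₂, c, hc, ⟨u₂, rfl⟩, N, _, hN, ⟨d⟩⟩ :=
    exists_split (Red.bc q₁ H₂) (CentralDescent.isMultTypeFT_bc q₁ H₂ h₂) u₁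
  haveI := hq₁; haveI := hc
  obtain ⟨e', he', -⟩ := GrpBC.nonempty_iso_restrict q₁ c (c ≫ q₁) rfl H₁ e
  obtain ⟨b⟩ := SchemeLocal.nonempty_bc_comp q₁ c (c ≫ q₁) rfl H₂
  refine ⟨U₂, c ≫ q₁, inferInstance, ⟨u₂, by rw [Scheme.Hom.comp_apply]⟩, M, N, inferInstance, inferInstance, hM, hN,
    e', (Grp.forget _).mapIso (b.symm ≪≫ d), he', ?_⟩
  exact (b.symm ≪≫ d).hom.hom.isMonHom_hom

/-- An etale neighbourhood receives the geometric point. -/
theorem exists_lift_geomPt {U : Scheme.{u}} (q : U ⟶ S) [Etale q] {s : S} (hs : s ∈ Set.range q.base) :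
    ∃ v : Spec (CommRingCat.of (AlgebraicClosure (S.residueField s))) ⟶ U, v ≫ q = Red.geomPt s := by
  let K := AlgebraicClosure (S.residueField s)
  let P := pullback (Red.geomPt s) q
  let p : P ⟶ Spec (CommRingCat.of K) := pullback.fst _ _
  obtain ⟨u, hu⟩ := hs
  obtain ⟨z, -, -⟩ := Scheme.Pullback.exists_preimage_pullback (f := Red.geomPt s) (g := q)
    (IsLocalRing.closedPoint K) u (by rw [MTConjEtale.geomPt_apply]; exact hu.symm)
  haveI : LocallyOfFiniteType p := MorphismProperty.pullback_fst (P := @LocallyOfFiniteType) _ _ inferInstance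
  haveI : JacobsonSpace ↥P := LocallyOfFiniteType.jacobsonSpace p
  obtain ⟨x, -, hx⟩ := nonempty_inter_closedPoints (Z := (Set.univ : Set ↥P)) ⟨z, trivial⟩ isClosed_univ.isLocallyClosed
  obtain ⟨v, hv⟩ := (pointEquivClosedPoint (K := K) p).symm ⟨x, hx⟩
  refine ⟨v ≫ pullback.snd _ _, ?_⟩
  rw [Category.assoc, ← pullback.condition, ← Category.assoc]
  exact (congrArg (· ≫ Red.geomPt s) hv).trans (Category.id_comp _)

section Local

variable {U : Scheme.{u}} {M N : Type} [AddCommGroup M] [AddCommGroup N]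

/-- An isomorphism of diagonalisable groups given at a point spreads out. -/
theorem exists_DS_iso [AddGroup.FG M] [AddGroup.FG N] {W : Over U} [Subsingleton W.left] (hW : Nonempty W.left)
    {H₁ H₂ : Over U} [GrpObj H₁] [GrpObj H₂] (e : H₁ ≅ Red.DS U M) (d : H₂ ≅ Red.DS U N) [IsMonHom e.hom]
    [IsMonHom d.hom] (Ψ : W ⊗ H₁ ⟶ H₂) (Ψ' : W ⊗ H₂ ⟶ H₁) (hΨ : IsFam Ψ) (hΨ' : IsFam Ψ')
    (h12 : ∀ (Z : Over U) (t : Z ⟶ W) (h : Z ⟶ H₁), lift t (lift t h ≫ Ψ) ≫ Ψ' = h)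
    (h21 : ∀ (Z : Over U) (t : Z ⟶ W) (h : Z ⟶ H₂), lift t (lift t h ≫ Ψ') ≫ Ψ = h) :
    ∃ Φ : H₁ ≅ H₂, IsMonHom Φ.hom ∧ ∀ (Z : Over U) (t : Z ⟶ W) (h : Z ⟶ H₁), h ≫ Φ.hom = lift t h ≫ Ψ := by
  obtain ⟨w₀⟩ := hW
  haveI : IsMonHom e.inv := inferInstance
  haveI : IsMonHom d.inv := inferInstance
  let φ : Red.DS U M ⊗ W ⟶ Red.DS U N := lift (snd _ W) (fst _ W ≫ e.inv) ≫ Ψ ≫ d.hom
  let φ' : Red.DS U N ⊗ W ⟶ Red.DS U M := lift (snd _ W) (fst _ W ≫ d.inv) ≫ Ψ' ≫ e.hom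
  have hφl : ∀ {Z : Over U} (p : Z ⟶ Red.DS U M) (t : Z ⟶ W), lift p t ≫ φ = lift t (p ≫ e.inv) ≫ Ψ ≫ d.hom :=
    fun p t => by simp only [φ, ← Category.assoc, comp_lift, lift_fst, lift_snd]
  have hφl' : ∀ {Z : Over U} (p : Z ⟶ Red.DS U N) (t : Z ⟶ W), lift p t ≫ φ' = lift t (p ≫ d.inv) ≫ Ψ' ≫ e.hom :=
    fun p t => by simp only [φ', ← Category.assoc, comp_lift, lift_fst, lift_snd]
  obtain ⟨V, a, hwV, ha⟩ := HomDS.exists_local φ (fun X p p' t => by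
    simp only [hφl, MonObj.mul_comp]
    rw [← Category.assoc, ← Category.assoc, ← Category.assoc, hΨ, MonObj.mul_comp]) w₀
  obtain ⟨V', b, hwV', hb⟩ := HomDS.exists_local φ' (fun X p p' t => by
    simp only [hφl', MonObj.mul_comp]
    rw [← Category.assoc, ← Category.assoc, ← Category.assoc, hΨ', MonObj.mul_comp]) w₀
  have ha' : ∀ (Z : Over U) (t : Z ⟶ W) (p : Z ⟶ Red.DS U M),
      p ≫ Red.DSmap U a = lift t (p ≫ e.inv) ≫ Ψ ≫ d.hom := fun Z t p => by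
    rw [← hφl, ha Z t (fun w => by rw [Subsingleton.elim (t.left w) w₀]; exact hwV) p]
  have hb' : ∀ (Z : Over U) (t : Z ⟶ W) (p : Z ⟶ Red.DS U N),
      p ≫ Red.DSmap U b = lift t (p ≫ d.inv) ≫ Ψ' ≫ e.hom := fun Z t p => by
    rw [← hφl', hb Z t (fun w => by rw [Subsingleton.elim (t.left w) w₀]; exact hwV') p]
  have hab : a.comp b = AddMonoidHom.id M := HomDS.eq_of_points (U := U) ⟨w₀⟩ fun W' t p => by
    rw [Cochar26.DSmap_id, Category.comp_id, ← Cochar26.DSmap_comp, ← Category.assoc, hb' _ t, ha' _ t]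
    simp only [Category.assoc, d.hom_inv_id, Category.comp_id]
    rw [← Category.assoc, h12, Category.assoc, Iso.inv_hom_id, Category.comp_id]
  have hba : b.comp a = AddMonoidHom.id N := HomDS.eq_of_points (U := U) ⟨w₀⟩ fun W' t p => by
    rw [Cochar26.DSmap_id, Category.comp_id, ← Cochar26.DSmap_comp, ← Category.assoc, ha' _ t, hb' _ t]
    simp only [Category.assoc, e.hom_inv_id, Category.comp_id]
    rw [← Category.assoc, h21, Category.assoc, Iso.inv_hom_id, Category.comp_id]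
  let Δ : Red.DS U M ≅ Red.DS U N := ⟨Red.DSmap U a, Red.DSmap U b,
    by rw [Cochar26.DSmap_comp, hab, Cochar26.DSmap_id], by rw [Cochar26.DSmap_comp, hba, Cochar26.DSmap_id]⟩
  refine ⟨e ≪≫ Δ ≪≫ d.symm, ?_, fun Z t h => ?_⟩
  · show IsMonHom (e.hom ≫ Red.DSmap U a ≫ d.inv)
    infer_instance
  · show h ≫ e.hom ≫ Red.DSmap U a ≫ d.inv = _
    rw [← Category.assoc, ← Category.assoc, ha' Z t]
    simp only [Category.assoc, Iso.hom_inv_id, Category.comp_id]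

end Local

/-- A conjugation over a point as one of families. -/
theorem exists_fam_conj {U : Scheme.{u}} {B H₁ H₂ Q : Over U} [GrpObj H₁] [GrpObj H₂] [GrpObj Q]
    (j₁ : H₁ ⟶ Q) (j₂ : H₂ ⟶ Q) (a : 𝟙_ (Over B.left) ⟶ Red.bc B.hom Q) (φ : Red.bc B.hom H₁ ⟶ Red.bc B.hom H₂)
    (h : (toUnit _ ≫ a) * (Over.pullback B.hom).map j₁ * (toUnit _ ≫ a)⁻¹ = φ ≫ (Over.pullback B.hom).map j₂) :
    ∃ g : B ⟶ Q, ∀ (Z : Over U) (x : Z ⟶ B) (p : Z ⟶ H₁),
      (x ≫ g) * (p ≫ j₁) * (x ≫ g)⁻¹ = (lift x p ≫ homFam φ) ≫ j₂ := by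
  let κ : B ⟶ (Over.map B.hom).obj (𝟙_ _) :=
    Over.homMk (𝟙 _) ((Category.id_comp _).trans (Category.id_comp _))
  refine ⟨κ ≫ (BCPoints.pt B.hom Q _).symm a, fun Z x => ?_⟩
  refine elim_pt (P := fun Z x => ∀ p : Z ⟶ H₁,
    (x ≫ κ ≫ (BCPoints.pt B.hom Q _).symm a) * (p ≫ j₁) * (x ≫ κ ≫ (BCPoints.pt B.hom Q _).symm a)⁻¹ =
      (lift x p ≫ homFam φ) ≫ j₂) (fun X p => ?_) Z x
  apply (BCPoints.pt B.hom Q X).injective
  have hk : str B X ≫ κ = (Over.map B.hom).map (toUnit X) := Over.OverMorphism.ext (Category.comp_id _)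
  rw [reassoc_of% hk, BCPoints.pt_mul, BCPoints.pt_mul, BCPoints.pt_inv, BCPoints.pt_map_comp,
    Equiv.apply_symm_apply, BCPoints.pt_comp B.hom p j₁, BCPoints.pt_comp B.hom (lift (str B X) p ≫ homFam φ) j₂,
    lift_homFam, Category.assoc (BCPoints.pt B.hom H₁ X p), ← h]
  simp only [MonObj.comp_mul, GrpObj.comp_inv, ← Category.assoc, comp_toUnit]

variable {G T₁ T₂ : Over S} [GrpObj G] [GrpObj T₁] [GrpObj T₂]

/-- Maximal tori are conjugate near each point. -/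
theorem exists_local_conj [Smooth G.hom] [IsSeparated G.hom] [QuasiCompact G.hom] (i₁ : T₁ ⟶ G) (i₂ : T₂ ⟶ G)
    (h₁ : Red.IsMaximalTorus i₁) (h₂ : Red.IsMaximalTorus i₂) (s : S) :
    ∃ (W : Over S) (g : W ⟶ G), Etale W.hom ∧ s ∈ Set.range W.hom.base ∧
      Contain i₁ i₂ g ∧ Contain i₂ i₁ g⁻¹ := by
  haveI := h₁.1; haveI := h₂.1
  let K := AlgebraicClosure (S.residueField s)
  haveI : Smooth (Red.geomFibre s G).hom := MorphismProperty.pullback_snd (P := @Smooth) _ _ inferInstance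
  haveI : QuasiCompact (Red.geomFibre s G).hom :=
    MorphismProperty.pullback_snd (P := @QuasiCompact) _ _ inferInstance
  obtain ⟨g₀, φ₀, hφ₀⟩ := maxTorus_conj' (k := K) _ _ (MaxTorus26.isMaximalTorus_geom h₁ s)
    (MaxTorus26.isMaximalTorus_geom h₂ s)
  have m₁ := MultExt26.isMultTypeFT_of_torus T₁ h₁.2.2.1
  have m₂ := MultExt26.isMultTypeFT_of_torus T₂ h₂.2.2.1
  obtain ⟨U, q, hq, hsU, M, N, _, _, hM, hN, e, d, he, hd⟩ := exists_split₂ T₁ T₂ m₁ m₂ s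
  haveI := hq; haveI := he; haveI := hd; haveI := hM; haveI := hN
  obtain ⟨v, hv⟩ := exists_lift_geomPt q hsU
  let H₁ := Red.bc q T₁
  let H₂ := Red.bc q T₂
  let GU := Red.bc q G
  let j₁ : H₁ ⟶ GU := (Over.pullback q).map i₁
  let j₂ : H₂ ⟶ GU := (Over.pullback q).map i₂
  haveI : IsMonHom j₁ := inferInstanceAs (IsMonHom ((Over.pullback q).map i₁))
  haveI : IsMonHom j₂ := inferInstanceAs (IsMonHom ((Over.pullback q).map i₂))
  let W₀ : Over U := Over.mk v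
  let c : Over.pullback q ⋙ Over.pullback v ≅ Over.pullback (Red.geomPt s) := GrpBC.bcCongr q v (Red.geomPt s) hv
  let cG : Red.bc v GU ≅ Red.geomFibre s G := c.app G
  let c₁ : Red.bc v H₁ ≅ Red.geomFibre s T₁ := c.app T₁
  let c₂ : Red.bc v H₂ ≅ Red.geomFibre s T₂ := c.app T₂
  haveI : IsMonHom cG.hom := (GrpBC.isMonHom_app c G).1
  haveI : IsMonHom c₁.hom := (GrpBC.isMonHom_app c T₁).1
  haveI : IsMonHom c₂.hom := (GrpBC.isMonHom_app c T₂).1
  haveI : IsMonHom cG.inv := inferInstance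
  haveI : IsMonHom c₁.inv := inferInstance
  haveI : IsMonHom c₂.inv := inferInstance
  let i₁g : Red.geomFibre s T₁ ⟶ Red.geomFibre s G := (Over.pullback (Red.geomPt s)).map i₁
  let i₂g : Red.geomFibre s T₂ ⟶ Red.geomFibre s G := (Over.pullback (Red.geomPt s)).map i₂
  haveI : Mono i₂g := (MaxTorus26.isMaximalTorus_geom h₂ s).2.1
  haveI : IsMonHom i₂g := (MaxTorus26.isMaximalTorus_geom h₂ s).1
  haveI : IsMonHom i₁g := (MaxTorus26.isMaximalTorus_geom h₁ s).1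
  have hφ : (toUnit _ ≫ g₀) * i₁g * (toUnit _ ≫ g₀)⁻¹ = φ₀.hom ≫ i₂g := hφ₀
  haveI : IsMonHom φ₀.hom := BCPoints.isMonHom_of_mul φ₀.hom fun X x y => by
    rw [← cancel_mono i₂g]
    simp only [MonObj.mul_comp, Category.assoc, ← hφ]
    simp only [MonObj.comp_mul, GrpObj.comp_inv, ← Category.assoc, comp_toUnit]
    simp only [MonObj.mul_comp]
    group
  haveI : IsMonHom φ₀.inv := inferInstance
  let φ' : Red.bc v H₁ ≅ Red.bc v H₂ := c₁ ≪≫ φ₀ ≪≫ c₂.symm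
  haveI : IsMonHom φ'.hom := inferInstanceAs (IsMonHom (c₁.hom ≫ φ₀.hom ≫ c₂.inv))
  haveI : IsMonHom φ'.inv := inferInstance
  let Ψ : W₀ ⊗ H₁ ⟶ H₂ := homFam (B := W₀) φ'.hom
  let Ψ' : W₀ ⊗ H₂ ⟶ H₁ := homFam (B := W₀) φ'.inv
  have inv_fam : ∀ {A B : Over U} (α : Red.bc v A ⟶ Red.bc v B) (β : Red.bc v B ⟶ Red.bc v A), α ≫ β = 𝟙 _ →
      ∀ (Z : Over U) (t : Z ⟶ W₀) (h : Z ⟶ A), lift t (lift t h ≫ homFam (B := W₀) α) ≫ homFam (B := W₀) β = h := by
    intro A B α β hαβ Z t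
    refine elim_pt (P := fun Z t => ∀ h : Z ⟶ A,
      lift t (lift t h ≫ homFam (B := W₀) α) ≫ homFam (B := W₀) β = h) (fun X h => ?_) Z t
    apply (BCPoints.pt W₀.hom A X).injective
    rw [lift_homFam, lift_homFam, Category.assoc, hαβ]
    exact Category.comp_id _
  haveI : Subsingleton W₀.left := inferInstanceAs (Subsingleton ↥(Spec (CommRingCat.of K)))
  obtain ⟨Φ, hΦ, hΦW⟩ := exists_DS_iso (W := W₀) (⟨IsLocalRing.closedPoint K⟩) e d Ψ Ψ' (isFam_homFam _)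
    (isFam_homFam _) (inv_fam _ _ φ'.hom_inv_id) (inv_fam _ _ φ'.inv_hom_id)
  haveI := hΦ
  haveI : IsSeparated GU.hom := MorphismProperty.pullback_snd (P := @IsSeparated) _ _ inferInstance
  haveI : Smooth GU.hom := MorphismProperty.pullback_snd (P := @Smooth) _ _ inferInstance
  obtain ⟨T, j, hj, hsm, hT⟩ := MTTransporter.exists_smooth j₁ (Φ.hom ≫ j₂)
    (CentralFib.locally_of_multTypeFT (CentralDescent.isMultTypeFT_bc q T₁ m₁))
  haveI := hsm
  have n₁ : (Over.pullback v).map j₁ = c₁.hom ≫ i₁g ≫ cG.inv := by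
    rw [← Category.assoc, Iso.eq_comp_inv]; exact c.hom.naturality i₁
  have n₂ : c₂.inv ≫ (Over.pullback v).map j₂ = i₂g ≫ cG.inv := by
    rw [Iso.inv_comp_eq, ← Category.assoc, Iso.eq_comp_inv]; exact c.hom.naturality i₂
  have hrel : (toUnit (Red.bc v H₁) ≫ g₀ ≫ cG.inv) * (c₁.hom ≫ i₁g ≫ cG.inv) *
      (toUnit (Red.bc v H₁) ≫ g₀ ≫ cG.inv)⁻¹ = c₁.hom ≫ φ₀.hom ≫ i₂g ≫ cG.inv := by
    rw [← Category.assoc φ₀.hom, ← hφ]
    simp only [MonObj.comp_mul, MonObj.mul_comp, GrpObj.comp_inv, GrpObj.inv_comp, ← Category.assoc, comp_toUnit]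
  rw [← n₁, ← n₂] at hrel
  obtain ⟨gW, hgW⟩ := exists_fam_conj (B := W₀) j₁ j₂ (g₀ ≫ cG.inv) φ'.hom
    (hrel.trans (by simp only [φ', Iso.trans_hom, Iso.symm_hom, Category.assoc]; rfl))
  obtain ⟨t, -⟩ := (hT W₀ gW).2 (fun Z x h => by
    rw [← Category.assoc h, hΦW Z x h]
    exact hgW Z x h)
  obtain ⟨S', f, s', hf, hs', h, hh⟩ :=
    FlatMorSmoothSect.exists_section_etale_locally T.hom (t.left.base (IsLocalRing.closedPoint K))
  haveI := hf
  let Y : Over U := Over.mk f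
  let τ : Y ⟶ T := Over.homMk h hh
  let gY : Y ⟶ GU := τ ≫ j
  have hc := (hT Y gY).1 ⟨τ, rfl⟩
  have k₁ : Contain j₁ j₂ gY := fun Z x a => ⟨a ≫ Φ.hom, by rw [hc Z x a, Category.assoc]⟩
  have k₂ : Contain j₂ j₁ gY⁻¹ := fun Z x b => ⟨b ≫ Φ.inv, by
    have h1 := hc Z x (b ≫ Φ.inv)
    simp only [Category.assoc, Iso.inv_hom_id_assoc] at h1
    rw [← h1, GrpObj.comp_inv, _root_.inv_inv, Category.assoc]
    group⟩
  refine ⟨(Over.map q).obj Y, (BCPoints.pt q G Y).symm gY, inferInstanceAs (Etale (f ≫ q)), ⟨s', ?_⟩, ?_, ?_⟩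
  · show (f ≫ q).base s' = s
    rw [Scheme.Hom.comp_apply, hs']
    have e : T.hom.base (t.left.base (IsLocalRing.closedPoint K)) = v.base (IsLocalRing.closedPoint K) :=
      congrArg (fun r : _ ⟶ U => r.base (IsLocalRing.closedPoint K)) (Over.w t)
    refine (congrArg q.base e).trans ?_
    exact (congrArg (fun r : _ ⟶ S => r.base (IsLocalRing.closedPoint K)) hv).trans (MTConjEtale.geomPt_apply s _)
  · rw [MTTransporterSub.contain_pt i₁ i₂ q, Equiv.apply_symm_apply]; exact k₁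
  · rw [MTTransporterSub.contain_pt i₂ i₁ q, BCPoints.pt_inv, Equiv.apply_symm_apply]; exact k₂

/-- Containment glues over a disjoint union. -/
theorem contain_sigma {J : Type u} {H₁ H₂ : Over S} [GrpObj H₁] [GrpObj H₂] (i₁ : H₁ ⟶ G) (i₂ : H₂ ⟶ G) [Mono i₂]
    (W : J → Over S) {B : Over S} (r : ∀ a, W a ⟶ B) [∀ a, IsOpenImmersion (r a).left]
    (hcov : ∀ b : B.left, ∃ a w, (r a).left w = b) (g : B ⟶ G) (h : ∀ a, Contain i₁ i₂ (r a ≫ g)) :
    Contain i₁ i₂ g := by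
  let lhs : H₁ ⊗ B ⟶ G := (snd _ _ ≫ g) * (fst _ _ ≫ i₁) * (snd _ _ ≫ g)⁻¹
  have hl : ∀ {Z : Over S} (p : Z ⟶ H₁) (x : Z ⟶ B),
      lift p x ≫ lhs = (x ≫ g) * (p ≫ i₁) * (x ≫ g)⁻¹ := fun p x => by
    simp only [lhs, MonObj.comp_mul, GrpObj.comp_inv, lift_fst_assoc, lift_snd_assoc]
  have hw : ∀ a, ∃ φ : H₁ ⊗ W a ⟶ H₂, (H₁ ◁ r a) ≫ lhs = φ ≫ i₂ := fun a => by
    obtain ⟨φ, hφ⟩ := h a _ (snd H₁ (W a)) (fst _ _)
    refine ⟨φ, ?_⟩
    rw [← hφ]
    simp only [lhs, MonObj.comp_mul, GrpObj.comp_inv, whiskerLeft_fst_assoc, whiskerLeft_snd_assoc]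
  choose φ hφ using hw
  obtain ⟨ψ, hψ, -⟩ := HomScheme.glue W r hcov φ (fun a b L l l' hl => by
    rw [← cancel_mono i₂, Category.assoc, Category.assoc, ← hφ, ← hφ, ← whiskerLeft_comp_assoc,
      ← whiskerLeft_comp_assoc, hl])
  obtain ⟨_, _, huniq⟩ := HomScheme.glue W r hcov (fun a => (H₁ ◁ r a) ≫ lhs) (fun a b L l l' hl => by
    rw [← whiskerLeft_comp_assoc, ← whiskerLeft_comp_assoc, hl])
  have e : ψ ≫ i₂ = lhs := (huniq _ fun a => by rw [← Category.assoc, hψ, hφ]).trans (huniq _ fun a => rfl).symm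
  intro Z x p
  exact ⟨lift p x ≫ ψ, by rw [Category.assoc, e, hl]⟩

theorem maxTori_conj [Smooth G.hom] [IsSeparated G.hom] [QuasiCompact G.hom] (i₁ : T₁ ⟶ G) (i₂ : T₂ ⟶ G)
    (h₁ : Red.IsMaximalTorus i₁) (h₂ : Red.IsMaximalTorus i₂) :
    ∃ (S' : Scheme.{u}) (f : S' ⟶ S), Etale f ∧ Surjective f ∧
      ∃ g : 𝟙_ (Over S') ⟶ Red.bc f G, SGA3x.ConjBy ((Over.pullback f).map i₁) ((Over.pullback f).map i₂) g := by
  haveI := h₁.2.1; haveI := h₂.2.1
  choose W gg hW hs k₁ k₂ using exists_local_conj i₁ i₂ h₁ h₂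
  let X : S → Scheme.{u} := fun s => (W s).left
  let F : ∐ X ⟶ S := Sigma.desc fun s => (W s).hom
  have hι : ∀ s, Sigma.ι X s ≫ F = (W s).hom := fun s => Sigma.ι_desc _ _
  haveI : Etale F := by
    rw [IsZariskiLocalAtSource.iff_of_openCover (P := @Etale) (sigmaOpenCover X)]
    intro s
    show Etale (Sigma.ι X s ≫ F)
    rw [hι]; exact hW s
  have hsurj : Surjective F := ⟨fun s => by
    obtain ⟨w, hw⟩ := hs s
    exact ⟨Sigma.ι X s w, by rw [← Scheme.Hom.comp_apply, hι]; exact hw⟩⟩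
  let B : Over S := (Over.map F).obj (𝟙_ _)
  let r : ∀ s, W s ⟶ B := fun s => Over.homMk (Sigma.ι X s) (by
    show Sigma.ι X s ≫ 𝟙 _ ≫ F = _
    rw [Category.id_comp, hι])
  let g : B ⟶ G := Over.homMk (Sigma.desc fun s => (gg s).left) (by
    apply Sigma.hom_ext
    intro s
    rw [Sigma.ι_desc_assoc]
    exact (Over.w (gg s)).trans (by show _ = Sigma.ι X s ≫ 𝟙 _ ≫ F; rw [Category.id_comp, hι]))
  have hr : ∀ s, r s ≫ g = gg s := fun s => Over.OverMorphism.ext (Sigma.ι_desc _ _)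
  haveI : ∀ s, IsOpenImmersion (r s).left := fun s => inferInstanceAs (IsOpenImmersion (Sigma.ι X s))
  have hcov : ∀ b : B.left, ∃ a w, (r a).left w = b := fun b => by
    obtain ⟨a, w, hw⟩ := (sigmaOpenCover X).exists_eq b
    exact ⟨a, w, hw⟩
  have hc : Contain i₁ i₂ g := contain_sigma i₁ i₂ W r hcov g fun s => by rw [hr]; exact k₁ s
  have hc' : Contain i₂ i₁ g⁻¹ := contain_sigma i₂ i₁ W r hcov g⁻¹ fun s => by
    rw [GrpObj.comp_inv, hr]; exact k₂ s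
  refine ⟨_, F, inferInstance, hsurj, BCPoints.pt F G _ g, ?_⟩
  let v₁ := (Over.pullback F).map i₁
  let v₂ := (Over.pullback F).map i₂
  haveI : (Over.pullback F).IsRightAdjoint := (Over.mapPullbackAdj F).isRightAdjoint
  have l₁ := (MTTransporterSub.contain_pt i₁ i₂ F g).1 hc
  have l₂ := (MTTransporterSub.contain_pt i₂ i₁ F g⁻¹).1 hc'
  rw [BCPoints.pt_inv] at l₂
  obtain ⟨φ, hφ⟩ := l₁ (Red.bc F T₁) (toUnit _) (𝟙 _)
  obtain ⟨ψ, hψ⟩ := l₂ (Red.bc F T₂) (toUnit _) (𝟙 _)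
  rw [Category.id_comp] at hφ hψ
  rw [GrpObj.comp_inv, _root_.inv_inv] at hψ
  refine ⟨⟨φ, ψ, ?_, ?_⟩, hφ⟩
  · rw [← cancel_mono v₁, Category.id_comp, Category.assoc, ← hψ, MonObj.comp_mul, MonObj.comp_mul, ← hφ,
      GrpObj.comp_inv, ← Category.assoc, comp_toUnit]
    simp only [v₁, v₂]
    group
  · rw [← cancel_mono v₂, Category.id_comp, Category.assoc, ← hφ, MonObj.comp_mul, MonObj.comp_mul, ← hψ,
      GrpObj.comp_inv, ← Category.assoc, comp_toUnit]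
    simp only [v₁, v₂]
    group

end Groth.Agent.ConjConst26.ToriEtale
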