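import Groth.Agent.HMTor29.MaxTorus
import Groth.Agent.AGFQuot23.CentreInBorel
import Groth.Agent.AlgGrpLib.SliceDense
import Groth.Agent.AlgGrpLib.TorusUnipotent
import Groth.Agent.ConjConst26.ToriEtale
import Groth.Agent.SGA3cLib.ConjTransporter
import Groth.Agent.SGA3cLib.MTTransporterSub
import Groth.Agent.CohDer1.PointedSplit.Eigen
import Groth.Agent.S2966
import Groth.Agent.S5255
import Groth.Agent.Cochar26.Factor
import Groth.Agent.AlgGrpLib.TorusExt

/-! The reductive centre of an affine smooth connected group is the intersection of its maximal tori. -/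

set_option linter.style.haveILetI false
set_option autoImplicit false
set_option backward.isDefEq.respectTransparency.types false
set_option maxHeartbeats 1000000
set_option synthInstance.maxHeartbeats 400000

universe u

open CategoryTheory CategoryTheory.Limits MonoidalCategory CartesianMonoidalCategory MonObj GrpObj AlgebraicGeometry
open scoped TensorProduct
open Groth.Agent.HopfQuot

noncomputable section

namespace Groth.Agent.ConjConst26.RedCentre

open AGFQuot23 (cj cst comp_cj)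

variable {k : Type u} [Field k]

theorem isMultType_of_isDiag {A : Type u} [CommRing A] [HopfAlgebra k A] (h : SGA3b.IsDiag k A) :
    SGA3b.IsMultType k A := by
  obtain ⟨M, _, ⟨e⟩⟩ := h
  refine ⟨{1}, by simp, fun f _ => ⟨Localization.Away f, inferInstance, inferInstance, inferInstance, M, inferInstance,
    ⟨(SGA3bLib.cancelBC (R := k) (Localization.Away f) (Localization.Away f) A).trans
    (IsoTriv.bcTriv ((Bialgebra.TensorProduct.lid k A).trans e))⟩⟩⟩

variable [IsAlgClosed k]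

/-- The identity base change respects the group structure. -/
theorem isMonHom_pullbackId (H : Over (Spec (CommRingCat.of k))) [GrpObj H] :
    ∃ c : Red.bc (𝟙 (Spec (CommRingCat.of k))) H ≅ H, IsMonHom c.hom ∧
      c.hom = (Over.pullbackId (X := Spec (CommRingCat.of k))).hom.app H := by
  let s : (Spec (CommRingCat.of k) : Scheme.{u}) := IsLocalRing.closedPoint k
  haveI := MaxTorus26.isIso_geomPt s
  let α := SGA3cLib.GrpBC.bcCongr (Red.geomPt s) (inv (Red.geomPt s)) (𝟙 _) (IsIso.inv_hom_id _)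
  let β : Over.pullback (Red.geomPt s) ⋙ Over.pullback (inv (Red.geomPt s)) ≅ 𝟭 _ := α ≪≫ Over.pullbackId
  let a : Red.bc (inv (Red.geomPt s)) (Red.geomFibre s H) ≅ Red.bc (𝟙 _) H := α.app H
  let b : Red.bc (inv (Red.geomPt s)) (Red.geomFibre s H) ≅ H := β.app H
  haveI : IsMonHom a.inv := (SGA3cLib.GrpBC.isMonHom_app α H).2
  have h1 := (SGA3cLib.GrpBC.isMonHom_app β H).1
  haveI : IsMonHom b.hom := ⟨h1.one_hom.trans (Category.id_comp _),
    h1.mul_hom.trans (congrArg (_ ≫ ·) (Category.id_comp _))⟩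
  refine ⟨a.symm ≪≫ b, inferInstanceAs (IsMonHom (a.inv ≫ b.hom)), ?_⟩
  show (α.app H).inv ≫ (β.app H).hom = _
  simp [β]


/-- Groups of multiplicative type over an algebraically closed field are diagonalisable. -/
theorem exists_split_algClosed (H : Over (Spec (CommRingCat.of k))) [GrpObj H] (hH : SGA3x.IsMultTypeFT H) :
    ∃ (M : Type) (_ : AddCommGroup M), AddGroup.FG M ∧
      Nonempty (Grp.mk H ≅ Grp.mk (Red.DS (Spec (CommRingCat.of k)) M)) := by
  let s : (Spec (CommRingCat.of k) : Scheme.{u}) := IsLocalRing.closedPoint k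
  obtain ⟨U, q, hq, hs, M, _, hM, ⟨e⟩⟩ := ToriEtale.exists_split H hH s
  haveI := hq
  obtain ⟨v, hv⟩ := ToriEtale.exists_lift_geomPt q hs
  haveI := MaxTorus26.isIso_geomPt s
  obtain ⟨i, hi, -⟩ := SGA3cLib.GrpBC.nonempty_iso_restrict q (inv (Red.geomPt s) ≫ v) (𝟙 _)
    (by rw [Category.assoc, hv, IsIso.inv_hom_id]) H e
  haveI := hi
  obtain ⟨c, hc, -⟩ := isMonHom_pullbackId H
  haveI := hc
  exact ⟨M, inferInstance, hM,
    ⟨(Grp.mkIso' c).symm ≪≫ Grp.mkIso' i⟩⟩

theorem specHom_trivial {A D : Type u} [CommRing A] [HopfAlgebra k A] [CommRing D] [HopfAlgebra k D]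
    (f : A →ₐc[k] D) :
    specHom f = 1 ↔ ∀ a, f a = algebraMap k D (CoalgebraStruct.counit (R := k) a) := by
  let c : A →ₐc[k] k := Bialgebra.counitBialgHom k A
  let u : k →ₐc[k] D := Bialgebra.unitBialgHom k D
  have h2 : 𝟙 (spec (k := k) k) = 1 := by
    haveI : IsIso (spec (k := k) k).hom := by
      show IsIso (Spec.map (CommRingCat.ofHom (algebraMap k k)))
      haveI : IsIso (CommRingCat.ofHom (algebraMap k k)) := by
        rw [ConcreteCategory.isIso_iff_bijective]; exact Function.bijective_id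
      infer_instance
    exact Over.OverMorphism.ext ((cancel_mono (spec (k := k) k).hom).1 (by rw [Over.w, Over.w]))
  have h1 : specHom u ≫ specHom c = (1 : spec (k := k) D ⟶ spec A) := by
    rw [← Category.id_comp (specHom c), h2, MonObj.one_comp, MonObj.comp_one]
  constructor
  · intro h a
    have h3 := congrArg (fun r : spec (k := k) D ⟶ spec A => r.left) (h.trans h1.symm)
    rw [Over.comp_left, specHom_left, specHom_left, specHom_left] at h3
    exact congrArg (fun r : CommRingCat.of A ⟶ CommRingCat.of D => r.hom a) (Spec.map_injective (h3.trans (Spec.map_comp _ _).symm))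
  · intro h
    rw [← h1]
    refine Over.OverMorphism.ext ?_
    rw [Over.comp_left, specHom_left, specHom_left, specHom_left]
    exact (congrArg Spec.map (CommRingCat.hom_ext (RingHom.ext h))).trans (Spec.map_comp _ _)

omit [IsAlgClosed k] in
theorem isDiagonalizable_bc (N : Type*) [CommGroup N] (C : Type u) [CommRing C] [Bialgebra k C]
    (e : MonoidAlgebra k N →ₐc[k] C) (he : Function.Surjective e) :
    HopfRep.IsDiagonalizable (AlgebraicClosure k) (AlgebraicClosure k ⊗[k] C) := by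
  refine SGA3bLib.span_groupLike_bc _ (_root_.eq_top_iff.2 fun x _ => ?_)
  obtain ⟨y, rfl⟩ := he x
  rw [← (MonoidAlgebra.basis N k).linearCombination_repr y, Finsupp.linearCombination_apply, Finsupp.sum, map_sum]
  refine Submodule.sum_mem _ fun m _ => ?_
  rw [map_smul, MonoidAlgebra.basis_apply]
  exact Submodule.smul_mem _ _ (Submodule.subset_span ((MonoidAlgebra.isGroupLikeElem_single_one m).map e))

/-- A connected solvable group retracts onto a torus with kernel free of groups of multiplicative type. -/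
theorem exists_retraction (H : Over (Spec (CommRingCat.of k))) [GrpObj H] [IsAffine H.left] [Smooth H.hom]
    [ConnectedSpace H.left] (hs : Red.IsSolvableGrp H) :
    ∃ (S : Over (Spec (CommRingCat.of k))) (_ : GrpObj S) (s : S ⟶ H) (π : H ⟶ S),
      Red.IsTorus S ∧ IsMonHom s ∧ IsMonHom π ∧ s ≫ π = 𝟙 S ∧
      ∀ (M : Type) [AddCommGroup M] [AddGroup.FG M] (d : Red.DS (Spec (CommRingCat.of k)) M ⟶ H) [IsMonHom d],
        d ≫ π = 1 → d = 1 := by
  obtain ⟨A, _, _, e, he, hem⟩ := exists_spec (k := k) H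
  haveI := he
  haveI := hem
  haveI : IsIso e.left := inferInstanceAs (IsIso ((Over.forget _).map e))
  haveI : Algebra.FiniteType k A := by
    have heft : LocallyOfFiniteType (spec (k := k) A).hom := by rw [← Over.w e]; infer_instance
    exact RingHom.finiteType_algebraMap.1 ((HasRingHomProperty.Spec_iff (P := @LocallyOfFiniteType)).1
      (show LocallyOfFiniteType (Spec.map (CommRingCat.ofHom (algebraMap k A))) from heft))
  haveI : IrreducibleSpace H.left := SGA3cLib.irreducibleSpace_of_connected H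
  haveI : IsReduced H.left := AbSchLib.isReduced_of_smooth H.hom
  haveI : IsIntegral H.left := isIntegral_of_irreducibleSpace_of_isReduced _
  haveI : IsIntegral (Spec (CommRingCat.of A)) := by
    haveI : Nonempty ↥(Spec (CommRingCat.of A)) := ⟨(inv e.left) (Classical.arbitrary H.left)⟩
    haveI hoi : IsOpenImmersion e.left := inferInstanceAs (IsOpenImmersion (asIso e.left).hom)
    exact @isIntegral_of_isOpenImmersion _ _ e.left hoi _ _
  haveI : IsDomain A := (affine_isIntegral_iff (CommRingCat.of A)).1 inferInstance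
  have hconn : ∀ x : A, IsIdempotentElem x → x = 0 ∨ x = 1 := fun x hx => IsIdempotentElem.iff_eq_zero_or_one.1 hx
  obtain ⟨n, hn⟩ := hs
  haveI : IsMonHom (inv e) := inferInstanceAs (IsMonHom (asIso e).inv)
  haveI : Group.IsSolvable (WithConv (A →ₐ[k] k)) := by
    haveI : Group.IsSolvable (CoactBr.sp k k ⟶ H) := ⟨⟨n, hn _⟩⟩
    let f : (CoactBr.sp k k ⟶ H) →* WithConv (A →ₐ[k] k) :=
      (ptSpec (k := k) (A := A) (T := k)).symm.toMonoidHom.comp
        { toFun := fun x => x ≫ inv e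
          map_one' := by rw [MonObj.one_comp]
          map_mul' := fun x y => by rw [MonObj.mul_comp] }
    refine solvable_of_surjective (f := f) fun φ => ⟨ptSpec φ ≫ e, ?_⟩
    show (ptSpec (k := k)).symm ((ptSpec φ ≫ e) ≫ inv e) = φ
    rw [Category.assoc, IsIso.hom_inv_id, Category.comp_id, MulEquiv.symm_apply_apply]
  have hT : HopfRep.IsTrigonalizable k A := Groth.Agent.S3266.result k A hconn
  obtain ⟨B, _, _, ψ, J, hJH, hψ, hBd, hJ, hU⟩ := (Groth.Agent.S7967.result k A).1 hT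
  haveI := hJH
  have hBdiag : SGA3b.IsDiag k B := SGA3bLib.isDiag_of_span_groupLike hBd
  obtain ⟨r₀, hr₀⟩ := Groth.Agent.S4128.result k A B hBdiag ψ hψ J hJ hU
  obtain ⟨M, _, ⟨ε⟩⟩ := hBdiag
  let φ : MonoidAlgebra k M →ₐc[k] A := ψ.comp (ε.symm : MonoidAlgebra k M →ₐc[k] B)
  let r : A →ₐc[k] MonoidAlgebra k M := (ε : B →ₐc[k] MonoidAlgebra k M).comp r₀
  have hrφ : ∀ d, r (φ d) = d := fun d => by
    show ε (r₀ (ψ (ε.symm d))) = d
    rw [show r₀ (ψ (ε.symm d)) = ε.symm d from DFunLike.congr_fun hr₀ _, ε.apply_symm_apply]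
  have hφ : Function.Injective φ := fun x y h => by rw [← hrφ x, h, hrφ]
  have hJ' : J = Ideal.map (φ : MonoidAlgebra k M →+* A)
      (RingHom.ker (Bialgebra.counitAlgHom k (MonoidAlgebra k M))) := by
    rw [hJ]
    refine congrArg Ideal.span (Set.ext fun a => ⟨?_, ?_⟩)
    · rintro ⟨b, hb, rfl⟩
      exact ⟨ε b, (CoalgHomClass.counit_comp_apply ε b).trans hb, congrArg ψ (ε.symm_apply_apply b)⟩
    · rintro ⟨d, hd, rfl⟩
      exact ⟨ε.symm d, (CoalgHomClass.counit_comp_apply ε.symm d).trans hd, rfl⟩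
  haveI : IsDomain (MonoidAlgebra k M) :=
    Function.Injective.isDomain (φ : MonoidAlgebra k M →+* A) hφ
  obtain ⟨rk, ⟨εM⟩⟩ := HMTor29.MaxTorus.exists_free_equiv (Algebra.FiniteType.of_surjective (r : A →ₐ[k] MonoidAlgebra k M)
    (fun d => ⟨φ d, hrφ d⟩))
  have hsπ : (specHom r ≫ e) ≫ inv e ≫ specHom φ = 𝟙 _ := by
    rw [Category.assoc, IsIso.hom_inv_id_assoc]
    refine Over.OverMorphism.ext ?_
    refine ((Spec.map_comp (CommRingCat.ofHom (φ : MonoidAlgebra k M →+* A))
      (CommRingCat.ofHom (r : A →+* MonoidAlgebra k M))).symm).trans ?_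
    rw [← CommRingCat.ofHom_comp,
      show (r : A →+* MonoidAlgebra k M).comp (φ : MonoidAlgebra k M →+* A) = RingHom.id _ from RingHom.ext hrφ]
    exact Spec.map_id _
  refine ⟨spec (k := k) (MonoidAlgebra k M), inferInstance, specHom r ≫ e, inv e ≫ specHom φ,
    HMTor29.MaxTorus.isTorus_spec εM, inferInstance, inferInstance, hsπ, fun L _ _ d _ hd => ?_⟩
  obtain ⟨iD⟩ := IsoTriv.SchemeSpec.nonempty_DS k L
  let l : spec (k := k) (MonoidAlgebra k (Multiplicative L)) ⟶ Red.DS (Spec (CommRingCat.of k)) L := iD.inv.hom.hom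
  haveI : IsMonHom l := iD.inv.hom.isMonHom_hom
  haveI : IsIso l := ((Grp.forget _).mapIso iD).isIso_inv
  haveI : IsMonHom (l ≫ d ≫ inv e) := inferInstance
  obtain ⟨f, hf⟩ := exists_specHom (l ≫ d ≫ inv e)
  have hfφ := (specHom_trivial (f.comp φ)).1 (by
    have h4 : specHom (f.comp φ) = specHom f ≫ specHom φ := by
      refine Over.OverMorphism.ext ?_
      rw [Over.comp_left, specHom_left, specHom_left, specHom_left]
      exact (congrArg Spec.map (show _ = CommRingCat.ofHom (φ : MonoidAlgebra k M →+* A) ≫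
        CommRingCat.ofHom (f : A →+* MonoidAlgebra k (Multiplicative L)) from rfl)).trans (Spec.map_comp _ _)
    rw [h4, hf]
    simp only [Category.assoc]
    rw [hd, MonObj.comp_one])
  have hJf : J ≤ RingHom.ker (f : A →ₐ[k] MonoidAlgebra k (Multiplicative L)) := by
    rw [hJ', Ideal.map_le_iff_le_comap]
    intro x hx
    rw [Ideal.mem_comap, RingHom.mem_ker]
    refine (hfφ x).trans ?_
    rw [show CoalgebraStruct.counit (R := k) x = 0 from hx, map_zero]
  let π₀ : A →ₐc[k] A ⧸ J := Bialgebra.Quotient.mkBialgHom J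
  let g₀ : A ⧸ J →ₐ[k] MonoidAlgebra k (Multiplicative L) :=
    Ideal.Quotient.liftₐ J (f : A →ₐ[k] MonoidAlgebra k (Multiplicative L)) fun a ha => hJf ha
  let g : A ⧸ J →ₐc[k] MonoidAlgebra k (Multiplicative L) := BialgHom.ofAlgHom g₀
    (Ideal.Quotient.algHom_ext _ (AlgHom.ext fun a => by
      show CoalgebraStruct.counit (R := k) (f a) = CoalgebraStruct.counit (R := k) (π₀ a)
      rw [CoalgHomClass.counit_comp_apply, CoalgHomClass.counit_comp_apply]))
    (Ideal.Quotient.algHom_ext _ (AlgHom.ext fun a => by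
      show TensorProduct.map g₀.toLinearMap g₀.toLinearMap (CoalgebraStruct.comul (R := k) (π₀ a)) =
        CoalgebraStruct.comul (R := k) (f a)
      rw [← CoalgHomClass.map_comp_comul_apply π₀, TensorProduct.map_map, ← CoalgHomClass.map_comp_comul_apply f]
      rfl))
  haveI : Algebra.FiniteType k (A ⧸ J) := Algebra.FiniteType.of_surjective (Ideal.Quotient.mkₐ k J) Ideal.Quotient.mk_surjective
  haveI : Monoid.FG (Multiplicative L) := Group.fg_iff_monoid_fg.mp inferInstance
  haveI : Algebra.FiniteType k (MonoidAlgebra k (Multiplicative L)) := inferInstance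
  have htriv := (Groth.Agent.S2966.result (isDiagonalizable_bc (Multiplicative L) _ (BialgHom.id k _) fun x => ⟨x, rfl⟩) hU).1 g
  have hf1 : specHom f = 1 := (specHom_trivial f).2 fun a => by
    refine (htriv (π₀ a)).trans ?_
    rw [CoalgHomClass.counit_comp_apply]
  have h5 : l ≫ d ≫ inv e = 1 := hf.symm.trans hf1
  rw [← cancel_mono (inv e), ← cancel_epi l, h5, MonObj.one_comp, MonObj.comp_one]

/-- Mutually embedded tori are isomorphic. -/
theorem isIso_of_mono_cycle {T T' : Over (Spec (CommRingCat.of k))} [GrpObj T] [GrpObj T'] (hT : Red.IsTorus T)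
    (f : T ⟶ T') [IsMonHom f] [Mono f] (p : T' ⟶ T) [IsMonHom p] [Mono p] : IsIso f := by
  obtain ⟨M, _, hM, ⟨E⟩⟩ := exists_split_algClosed T (MultExt26.isMultTypeFT_of_torus T hT)
  haveI := hM
  let e : T ≅ Red.DS (Spec (CommRingCat.of k)) M := (Grp.forget _).mapIso E
  haveI : IsMonHom e.hom := E.hom.hom.isMonHom_hom
  haveI : IsMonHom e.inv := E.inv.hom.isMonHom_hom
  obtain ⟨φ, hφ⟩ := AlgGrpLib.exists_eq_DSmap_field (e.inv ≫ (f ≫ p) ≫ e.hom)
  haveI : Mono (Red.DSmap (Spec (CommRingCat.of k)) φ) := by rw [← hφ]; infer_instance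
  haveI : (Over.pullback (𝟙 (Spec (CommRingCat.of k)))).IsRightAdjoint := (Over.mapPullbackAdj _).isRightAdjoint
  haveI : Mono ((Over.pullback (𝟙 (Spec (CommRingCat.of k)))).map (Red.DSmap (Spec (CommRingCat.of k)) φ)) := inferInstance
  have hs : Function.Surjective φ := SGA3cLib.MultHomLocus.surjective_of_mono (φ := φ) (𝟙 _)
    (show Mono ((Over.forget _).map ((Over.pullback (𝟙 (Spec (CommRingCat.of k)))).map
      (Red.DSmap (Spec (CommRingCat.of k)) φ))) from inferInstance)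
  haveI : Module.Finite ℤ M := Module.Finite.iff_addGroup_fg.2 hM
  have hi : Function.Injective φ :=
    OrzechProperty.injective_of_surjective_endomorphism φ.toIntLinearMap hs
  let a : M ≃+ M := AddEquiv.ofBijective φ ⟨hi, hs⟩
  haveI : IsIso (Red.DSmap (Spec (CommRingCat.of k)) φ) :=
    ⟨Red.DSmap _ a.symm.toAddMonoidHom,
      by rw [Cochar26.DSmap_comp, show φ.comp a.symm.toAddMonoidHom = AddMonoidHom.id M from
        AddMonoidHom.ext fun x => a.apply_symm_apply x, Cochar26.DSmap_id],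
      by rw [Cochar26.DSmap_comp, show a.symm.toAddMonoidHom.comp φ = AddMonoidHom.id M from
        AddMonoidHom.ext fun x => a.symm_apply_apply x, Cochar26.DSmap_id]⟩
  haveI : IsIso (f ≫ p) := by
    rw [show f ≫ p = e.hom ≫ Red.DSmap (Spec (CommRingCat.of k)) φ ≫ e.inv by rw [← hφ]; simp]
    infer_instance
  haveI : IsSplitEpi p := IsSplitEpi.mk' ⟨inv (f ≫ p) ≫ f, by rw [Category.assoc, IsIso.inv_hom_id]⟩
  haveI : IsIso p := isIso_of_mono_of_isSplitEpi p
  rw [show f = (f ≫ p) ≫ inv p by simp]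
  infer_instance

variable {G : Over (Spec (CommRingCat.of k))} [GrpObj G] [IsAffine G.left] [Smooth G.hom] [ConnectedSpace G.left]

omit [IsAffine G.left] [Smooth G.hom] [ConnectedSpace G.left] in
theorem isMaximalTorus_of_isMaxTorus {T : Over (Spec (CommRingCat.of k))} [GrpObj T] {i : T ⟶ G}
    (hi : AGF.IsMaxTorus i) : Red.IsMaximalTorus i := by
  obtain ⟨hhom, hmono, hT, hmax⟩ := hi
  haveI := hhom; haveI := hmono
  refine ⟨hhom, hmono, hT, fun p T' _ j _ _ f hT' hfj => ?_⟩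
  haveI := MaxTorus26.isIso_geomPt p
  let F := Over.pullback (Red.geomPt p)
  let F' := Over.pullback (inv (Red.geomPt p))
  let β : F ⋙ F' ≅ 𝟭 _ :=
    SGA3cLib.GrpBC.bcCongr (Red.geomPt p) (inv (Red.geomPt p)) (𝟙 _) (IsIso.inv_hom_id _) ≪≫ Over.pullbackId
  haveI : F'.IsRightAdjoint := (Over.mapPullbackAdj _).isRightAdjoint
  let b : Red.bc (inv (Red.geomPt p)) (Red.geomFibre p G) ≅ G := β.app G
  let a : Red.bc (inv (Red.geomPt p)) (Red.geomFibre p T) ≅ T := β.app T
  haveI hb : IsMonHom b.hom := by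
    have h1 := (SGA3cLib.GrpBC.isMonHom_app β G).1
    exact ⟨h1.one_hom.trans (Category.id_comp _),
      h1.mul_hom.trans (congrArg (_ ≫ ·) (Category.id_comp _))⟩
  haveI : IsMonHom (F'.map j) := inferInstanceAs (IsMonHom ((Over.pullback _).map j))
  haveI : IsMonHom (F'.map j ≫ b.hom) := inferInstance
  haveI : Mono (F'.map j ≫ b.hom) := mono_comp _ _
  haveI := hmax (Red.bc (inv (Red.geomPt p)) T') (F'.map j ≫ b.hom) (a.inv ≫ F'.map f)
    (TorusAb27.isTorus_bc _ T' hT') (by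
      rw [Category.assoc, ← Functor.map_comp_assoc, hfj, Iso.inv_comp_eq]
      exact β.hom.naturality i)
  haveI : IsIso a.inv := a.isIso_inv
  haveI : IsIso (F'.map f) := IsIso.of_isIso_comp_left a.inv _
  let γ' : F' ⋙ F ≅ 𝟭 _ :=
    SGA3cLib.GrpBC.bcCongr (inv (Red.geomPt p)) (Red.geomPt p) (𝟙 _) (IsIso.hom_inv_id _) ≪≫ Over.pullbackId
  exact (NatIso.isIso_map_iff γ' f).1 (Functor.map_isIso F (F'.map f))

omit [ConnectedSpace G.left] in
theorem exists_maximalTorus [ConnectedSpace G.left] :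
    ∃ (T : Over (Spec (CommRingCat.of k))) (_ : GrpObj T) (i : T ⟶ G), Red.IsMaximalTorus i := by
  obtain ⟨T, _, j, hT, hj, hjm, huniv⟩ := HMTor29.MaxTorus.exists_universal (G := G)
  haveI := hj; haveI := hjm
  refine ⟨T, inferInstance, j, isMaximalTorus_of_isMaxTorus ⟨hj, hjm, hT, fun T' _ j' _ _ f hT' hf => ?_⟩⟩
  obtain ⟨g, p, hp, hj'⟩ := huniv T' hT' j'
  haveI := hp
  haveI : Mono (p ≫ j ≫ cj g) := hj' ▸ inferInstance
  haveI : Mono p := mono_of_mono p (j ≫ cj g)
  haveI : Mono (f ≫ j') := by rw [hf]; infer_instance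
  haveI : Mono f := mono_of_mono f j'
  haveI : IsMonHom f := SGA3cLib.BCPoints.isMonHom_of_mul f fun X x y => by
    rw [← cancel_mono j', Category.assoc, hf, MonObj.mul_comp, MonObj.mul_comp, Category.assoc, Category.assoc, hf]
  exact isIso_of_mono_cycle hT f p

/-- The reductive centre lies in every maximal torus. -/
theorem factor_of_central {Z : Over (Spec (CommRingCat.of k))} [GrpObj Z] (z : Z ⟶ G) [IsMonHom z]
    (hZ : SGA3x.IsMultTypeFT Z)
    (hc : ∀ (X : Over (Spec (CommRingCat.of k))) (x : X ⟶ Z) (g : X ⟶ G), (x ≫ z) * g = g * (x ≫ z))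
    {T : Over (Spec (CommRingCat.of k))} [GrpObj T] (i : T ⟶ G) (hT : Red.IsMaximalTorus i) :
    ∃ w : Z ⟶ T, w ≫ i = z := by
  haveI : QuasiCompact G.hom := (quasiCompact_iff_compactSpace G.hom).2 inferInstance
  obtain ⟨hi, him, hTt, hmax⟩ := HMTor29.MaxTorus.isMaxTorus hT
  haveI := hi; haveI := him
  have hTm := MultExt26.isMultTypeFT_of_torus T hTt
  haveI : IsAffineHom T.hom := IsoTriv.SchemeBridge.isAffineHom_of_multTypeFT T hTm
  haveI : IsAffine T.left := isAffine_of_isAffineHom T.hom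
  haveI : Smooth T.hom := AlgGrpLib.AxesTorus.smooth_of_isTorus hTt
  haveI : ConnectedSpace T.left := TorusConnLib.connectedSpace T hTt
  haveI : Group.IsSolvable (𝟙_ (Over (Spec (CommRingCat.of k))) ⟶ T) :=
    isSolvable_of_comm fun x y => SGA3cLib.torus_mul_comm hTt x y
  -- a Borel subgroup containing the torus
  obtain ⟨B₀, _, j₀, hB₀⟩ := AGFQuot23.exists_isBorelOver k G
  obtain ⟨hj₀, hj₀cl, -⟩ := id hB₀
  haveI := hj₀; haveI := hj₀cl
  haveI : Mono j₀ := Over.mono_of_mono_left j₀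
  haveI : LocallyOfFiniteType B₀.hom := by rw [← Over.w j₀]; infer_instance
  haveI : QuasiCompact B₀.hom := by rw [← Over.w j₀]; infer_instance
  obtain ⟨X, a, o, -, hLX, -, hfl, hsu, hpb⟩ := AlgGrpLib.HomogQuotProj.exists_quotient_projMono G B₀ j₀
  obtain ⟨g, h, hh⟩ := HMTor29.MaxTorus.exists_factor i ⟨hLX, hfl, hsu, hpb⟩
    (AGFQuot23.isProper_of_isBorelOver hB₀ ⟨hLX, hfl, hsu, hpb⟩)
  let iB : B₀ ⟶ G := j₀ ≫ cj g⁻¹
  have hB : Red.IsBorelOver k iB := AGFQuot23.isBorelOver_comp_cj hB₀ _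
  have hhi : h ≫ iB = i := by
    show h ≫ j₀ ≫ cj g⁻¹ = i
    rw [reassoc_of% hh, AGFQuot23.cj_comp, mul_inv_cancel, AGFQuot23.cj_one, Category.comp_id]
  obtain ⟨hiB, hBcl, hBsm, hBconn, hBsol, -⟩ := id hB
  haveI := hiB; haveI := hBcl; haveI := hBsm; haveI := hBconn
  haveI : Mono iB := mono_comp _ _
  haveI : IsAffine B₀.left := isAffine_of_isAffineHom j₀.left
  haveI : IsMonHom h := SGA3cLib.BCPoints.isMonHom_of_mul h fun X x y => by
    rw [← cancel_mono iB]; simp only [MonObj.mul_comp, Category.assoc, hhi]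
  obtain ⟨zB, hzB⟩ := AGFQuot23.exists_factor_of_central hB z fun W w x => hc W w x
  haveI : IsMonHom zB := SGA3cLib.BCPoints.isMonHom_of_mul zB fun X x y => by
    rw [← cancel_mono iB]; simp only [MonObj.mul_comp, Category.assoc, hzB]
  have hcB : ∀ (X : Over (Spec (CommRingCat.of k))) (x : X ⟶ Z) (b : X ⟶ B₀),
      (x ≫ zB) * b = b * (x ≫ zB) := fun X x b => by
    rw [← cancel_mono iB]; simp only [MonObj.mul_comp, Category.assoc, hzB]; exact hc X x _
  -- the torus part of the central subgroup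
  obtain ⟨S, _, s, π, hS, hs, hπ, hsπ, hkill⟩ := exists_retraction B₀ hBsol
  haveI := hs; haveI := hπ
  let d : Z ⟶ B₀ := zB * (zB ≫ π ≫ s)⁻¹
  haveI : IsMonHom d := SGA3cLib.BCPoints.isMonHom_of_mul d fun X x y => by
    simp only [d, MonObj.comp_mul, GrpObj.comp_inv]
    rw [MonObj.mul_comp x y zB, MonObj.mul_comp x y (zB ≫ π ≫ s), _root_.mul_inv_rev]
    calc (x ≫ zB) * (y ≫ zB) * ((y ≫ zB ≫ π ≫ s)⁻¹ * (x ≫ zB ≫ π ≫ s)⁻¹)
        = (x ≫ zB) * ((y ≫ zB) * (y ≫ zB ≫ π ≫ s)⁻¹ * (x ≫ zB ≫ π ≫ s)⁻¹) := by group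
      _ = (x ≫ zB) * ((x ≫ zB ≫ π ≫ s)⁻¹ * ((y ≫ zB) * (y ≫ zB ≫ π ≫ s)⁻¹)) := by
          have hcomm : (x ≫ zB ≫ π ≫ s) * (y ≫ zB ≫ π ≫ s) = (y ≫ zB ≫ π ≫ s) * (x ≫ zB ≫ π ≫ s) := by
            have h9 := congrArg (fun r => r ≫ π ≫ s) (hcB X x (y ≫ zB))
            simpa only [MonObj.mul_comp, Category.assoc] using h9
          congr 1
          rw [← _root_.mul_assoc _ (y ≫ zB), ← hcB X y ((x ≫ zB ≫ π ≫ s)⁻¹), _root_.mul_assoc, _root_.mul_assoc]
          congr 1
          rw [← _root_.mul_inv_rev, ← _root_.mul_inv_rev, hcomm]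
      _ = _ := by group
  have hdπ : d ≫ π = 1 := by
    simp only [d, MonObj.mul_comp, GrpObj.inv_comp, Category.assoc, hsπ, Category.comp_id, mul_inv_cancel]
  obtain ⟨L, _, hL, ⟨eZ⟩⟩ := exists_split_algClosed Z hZ
  haveI := hL
  let eZ' : Z ≅ Red.DS (Spec (CommRingCat.of k)) L := (Grp.forget _).mapIso eZ
  haveI : IsMonHom eZ'.hom := eZ.hom.hom.isMonHom_hom
  haveI : IsMonHom eZ'.inv := inferInstance
  have hd1 : d = 1 := by
    have h6 := hkill L (eZ'.inv ≫ d) (by rw [Category.assoc, hdπ, MonObj.comp_one])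
    rw [← cancel_epi eZ'.inv, h6, MonObj.comp_one]
  have hzs : zB = zB ≫ π ≫ s := mul_inv_eq_one.1 hd1
  -- move into the given torus
  obtain ⟨S₀, _, s₀, π₀, hS₀, hs₀, hπ₀, hsπ₀, huniv⟩ := HMTor29.MaxTorus.exists_complement hBsol
  haveI := hs₀; haveI := hπ₀
  obtain ⟨v, hv⟩ := huniv T hTt h
  obtain ⟨v', hv'⟩ := huniv S hS s
  haveI : Mono s₀ := (SplitMono.mk π₀ hsπ₀).mono
  let j : S₀ ⟶ G := s₀ ≫ cj v⁻¹ ≫ iB
  haveI : Mono (cj v⁻¹ ≫ iB) := mono_comp _ _
  haveI : Mono j := mono_comp _ _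
  haveI : IsMonHom (h ≫ π₀) := inferInstance
  haveI : IsIso (h ≫ π₀) := hmax S₀ j (h ≫ π₀) hS₀ (by
    show (h ≫ π₀) ≫ s₀ ≫ cj v⁻¹ ≫ iB = i
    rw [← hhi]
    conv_rhs => rw [hv]
    rw [← Category.assoc (h ≫ π₀), ← Category.assoc ((h ≫ π₀) ≫ s₀), comp_cj]
    simp only [cst, GrpObj.comp_inv, _root_.inv_inv, Category.assoc])
  let y : Z ⟶ S₀ := zB ≫ π ≫ s ≫ π₀
  have hy : y ≫ s₀ = zB := by
    have h7 : zB = (toUnit Z ≫ v') * (y ≫ s₀) * (toUnit Z ≫ v')⁻¹ := by
      conv_lhs => rw [hzs, hv']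
      simp only [y, MonObj.comp_mul, GrpObj.comp_inv, Category.assoc, ← Category.assoc (Z := S) , comp_toUnit_assoc]
    have h8 := hcB Z (𝟙 Z) (toUnit Z ≫ v')
    rw [Category.id_comp] at h8
    calc y ≫ s₀ = (toUnit Z ≫ v')⁻¹ * ((toUnit Z ≫ v') * (y ≫ s₀) * (toUnit Z ≫ v')⁻¹) * (toUnit Z ≫ v') := by group
      _ = (toUnit Z ≫ v')⁻¹ * (zB * (toUnit Z ≫ v')) := by rw [← h7, _root_.mul_assoc]
      _ = zB := by rw [h8, inv_mul_cancel_left]
  obtain ⟨w, hw⟩ : ∃ w : S₀ ⟶ T, w ≫ h ≫ π₀ = 𝟙 S₀ := ⟨inv (h ≫ π₀), IsIso.inv_hom_id _⟩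
  refine ⟨y ≫ w, ?_⟩
  rw [← hhi, ← hzB]
  rw [← Category.assoc]
  congr 1
  conv_lhs => rw [hv]
  simp only [MonObj.comp_mul, GrpObj.comp_inv, ← Category.assoc, comp_toUnit]
  simp only [Category.assoc]
  rw [← Category.assoc h π₀ s₀, ← Category.assoc w (h ≫ π₀) s₀, hw, Category.id_comp, hy]
  have h8 := hcB Z (𝟙 Z) (toUnit Z ≫ v)
  rw [Category.id_comp] at h8
  rw [← h8, mul_inv_cancel_right]

/-- A point in every maximal torus lies in the reductive centre. -/
theorem factor_of_mem_all_tori {Z : Over (Spec (CommRingCat.of k))} [GrpObj Z] (z : Z ⟶ G)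
    (hZu : ∀ (S' : Scheme.{u}) (f : S' ⟶ (Spec (CommRingCat.of k))) (H : Over S') [GrpObj H] (v : H ⟶ Red.bc f G) [IsMonHom v],
      SGA3x.IsMultTypeFT H →
      (∀ (X : Over S') (x : X ⟶ H) (g : X ⟶ Red.bc f G), (x ≫ v) * g = g * (x ≫ v)) →
      ∃ w : H ⟶ Red.bc f Z, w ≫ (Over.pullback f).map z = v)
    {X : Over (Spec (CommRingCat.of k))} (g : X ⟶ G)
    (hg : ∀ (T : Over (Spec (CommRingCat.of k))) [GrpObj T] (i : T ⟶ G), Red.IsMaximalTorus i → ∃ t : X ⟶ T, t ≫ i = g) :
    ∃ x : X ⟶ Z, x ≫ z = g := by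
  obtain ⟨T, _, i, hT⟩ := exists_maximalTorus (G := G)
  obtain ⟨hi, him, hTt, -⟩ := id hT
  haveI := hi; haveI := him
  have hTm := MultExt26.isMultTypeFT_of_torus T hTt
  haveI : IsAffineHom G.hom := inferInstance
  haveI hicl : IsClosedImmersion i.left :=
    SGA3cLib.MTTransporterSub.isClosedImmersion_of_mono (SGA3cLib.CentralFib.locally_of_multTypeFT hTm) i
  -- the points all of whose conjugates lie in the torus
  obtain ⟨N, n, hn, hN⟩ :=
    SGA3cLib.exists_transporter (SGA3cLib.ConjTransporter.ess G) (fst G G * snd G G * (fst G G)⁻¹) i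
  haveI := hn
  haveI : Mono n := Over.mono_of_mono_left n
  have key : ∀ (S' : Over (Spec (CommRingCat.of k))) (h : S' ⟶ G), (∃ z : S' ⟶ N, z ≫ n = h) ↔
      ∀ (S'' : Over (Spec (CommRingCat.of k))) (s : S'' ⟶ S') (x : S'' ⟶ G),
        ∃ x' : S'' ⟶ T, x * (s ≫ h) * x⁻¹ = x' ≫ i := fun S' h =>
    (hN S' h).trans (forall₃_congr fun S'' s x => exists_congr fun x' => by
      simp only [MonObj.comp_mul, GrpObj.comp_inv, lift_snd, lift_fst])
  obtain ⟨gr, hmon⟩ := SGA3cLib.exists_grpObj_of_subgroup n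
    (fun W => (key W 1).2 fun S'' s x => ⟨1, by simp [MonObj.one_comp]⟩)
    (fun W a b => (key W _).2 fun S'' s x => by
      obtain ⟨x₁, e₁⟩ := (key W _).1 ⟨a, rfl⟩ S'' s x
      obtain ⟨x₂, e₂⟩ := (key W _).1 ⟨b, rfl⟩ S'' s x
      exact ⟨x₁ * x₂, by rw [MonObj.mul_comp, ← e₁, ← e₂, MonObj.comp_mul]; group⟩)
    (fun W a => (key W _).2 fun S'' s x => by
      obtain ⟨x₁, e₁⟩ := (key W _).1 ⟨a, rfl⟩ S'' s x
      exact ⟨x₁⁻¹, by rw [GrpObj.inv_comp, ← e₁, GrpObj.comp_inv]; group⟩)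
  letI := gr
  haveI := hmon
  have hnormal : AlgGrp.IsNormalHom n := fun W x w => by
    obtain ⟨w', hw'⟩ := (key W (x * (w ≫ n) * x⁻¹)).2 fun S'' s y => by
      obtain ⟨x', hx'⟩ := (key W _).1 ⟨w, rfl⟩ S'' s (y * (s ≫ x))
      exact ⟨x', by rw [← hx', MonObj.comp_mul, MonObj.comp_mul, GrpObj.comp_inv]; group⟩
    exact ⟨w', hw'.symm⟩
  obtain ⟨nT, hnT⟩ := (key N n).1 ⟨𝟙 N, Category.id_comp n⟩ N (𝟙 N) 1
  rw [Category.id_comp, _root_.one_mul, inv_one, _root_.mul_one] at hnT
  haveI : IsMonHom nT := SGA3cLib.BCPoints.isMonHom_of_mul nT fun W x y => by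
    rw [← cancel_mono i]; simp only [MonObj.mul_comp, Category.assoc, ← hnT]
  haveI : IsClosedImmersion nT.left := by
    haveI : IsClosedImmersion (nT.left ≫ i.left) := by rw [← Over.comp_left, ← hnT]; infer_instance
    exact IsClosedImmersion.of_comp nT.left i.left
  -- it is a diagonalisable group
  haveI : IsAffineHom n.left := inferInstance
  haveI : IsAffine N.left := isAffine_of_isAffineHom n.left
  obtain ⟨A, _, _, e, he, hem⟩ := exists_spec (k := k) N
  haveI := he; haveI := hem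
  obtain ⟨L, _, r, εL, eT, heT, heTm⟩ := HMTor29.MaxTorus.isFreeDiag_of_isTorus T hTt
  haveI := heT; haveI := heTm
  haveI : IsMonHom (inv eT) := inferInstanceAs (IsMonHom (asIso eT).inv)
  obtain ⟨f, hf⟩ := exists_specHom (e ≫ nT ≫ inv eT)
  have hfs : Function.Surjective f := by
    haveI : IsIso e.left := inferInstanceAs (IsIso ((Over.forget _).map e))
    haveI : IsIso (inv eT).left := inferInstanceAs (IsIso ((Over.forget _).map (inv eT)))
    haveI : IsClosedImmersion (Spec.map (CommRingCat.ofHom (f : MonoidAlgebra k L →+* A))) := by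
      rw [← specHom_left, hf, Over.comp_left, Over.comp_left]
      exact MorphismProperty.comp_mem @IsClosedImmersion _ _ (inferInstance : IsClosedImmersion e.left)
        (MorphismProperty.comp_mem @IsClosedImmersion _ _ (inferInstance : IsClosedImmersion nT.left)
          (inferInstance : IsClosedImmersion (inv eT).left))
    intro a
    obtain ⟨b, hb⟩ := (IsClosedImmersion.isAffine_surjective_of_isAffine
      (Spec.map (CommRingCat.ofHom (f : MonoidAlgebra k L →+* A)))).2 ((Scheme.ΓSpecIso (CommRingCat.of A)).inv a)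
    refine ⟨(Scheme.ΓSpecIso (CommRingCat.of (MonoidAlgebra k L))).hom b, ?_⟩
    have h3 := ConcreteCategory.congr_hom (Scheme.ΓSpecIso_naturality (CommRingCat.ofHom (f : MonoidAlgebra k L →+* A))) b
    exact (h3.symm.trans (congrArg (Scheme.ΓSpecIso (CommRingCat.of A)).hom hb)).trans (Iso.inv_hom_id_apply _ _)
  have hdiag : SGA3b.IsDiag k A := SGA3bLib.isDiag_of_span_groupLike
    (SGA3bLib.span_groupLike_map f hfs CohDer1.PointedSplit.isDiagonalizable_monoidAlgebra)
  haveI : LocallyOfFiniteType N.hom := by rw [← Over.w n]; infer_instance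
  haveI : Algebra.FiniteType k A := by
    have heft : LocallyOfFiniteType (spec (k := k) A).hom := by
      haveI : IsIso e.left := inferInstanceAs (IsIso ((Over.forget _).map e))
      rw [← Over.w e]; infer_instance
    exact RingHom.finiteType_algebraMap.1 ((HasRingHomProperty.Spec_iff (P := @LocallyOfFiniteType)).1
      (show LocallyOfFiniteType (Spec.map (CommRingCat.ofHom (algebraMap k A))) from heft))
  have hNm : SGA3x.IsMultTypeFT N := IsoTriv.SchemeBridge.isMultTypeFT_of_iso (Grp.mkIso' (asIso e))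
    (IsoTriv.SchemeBridge.multTypeFT_of_isMultType inferInstance (isMultType_of_isDiag hdiag))
  -- hence central
  have hconn : ∀ s : Spec (CommRingCat.of k),
      ConnectedSpace ↥(Limits.pullback G.hom ((Spec (CommRingCat.of k)).fromSpecResidueField s)) := fun s => by
    haveI : Surjective ((Spec (CommRingCat.of k)).fromSpecResidueField s) :=
      ⟨fun y ↦ ⟨IsLocalRing.closedPoint _, Subsingleton.elim _ _⟩⟩
    haveI : IsClosedImmersion ((Spec (CommRingCat.of k)).fromSpecResidueField s) :=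
      isClosed_singleton_iff_isClosedImmersion.1 Set.subsingleton_of_subsingleton.isClosed
    haveI : IsIso ((Spec (CommRingCat.of k)).fromSpecResidueField s) :=
      isIso_of_isClosedImmersion_of_surjective _
    let q := pullback.fst G.hom ((Spec (CommRingCat.of k)).fromSpecResidueField s)
    exact (inv q).homeomorph.surjective.connectedSpace (inv q).continuous
  have hcen := Groth.Agent.S5255.result G N hconn n hNm hnormal
  obtain ⟨cG, hcG, hcGe⟩ := isMonHom_pullbackId G
  obtain ⟨cZ, -, hcZe⟩ := isMonHom_pullbackId Z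
  haveI := hcG
  obtain ⟨w, hw⟩ := hZu _ (𝟙 _) N (n ≫ cG.inv) hNm fun W x y => by
    rw [← cancel_mono cG.hom, MonObj.mul_comp, MonObj.mul_comp]
    simp only [Category.assoc, cG.inv_hom_id, Category.comp_id]
    exact (hcen W (y ≫ cG.hom) x).symm
  -- the given point lies there
  haveI : GeometricallyReduced G.hom := Groth.Agent.AbSchLib.geometricallyReduced_of_smooth _
  obtain ⟨l, hl⟩ := AlgGrpLib.SliceDense.exists_factor_of_slices k k
    (fst G X * (snd G X ≫ g) * (fst G X)⁻¹) i fun x => by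
    let u : 𝟙_ (Over (Spec (CommRingCat.of k))) ≅ AlgGrpLib.PointsDense.spK k k :=
      Over.isoMk (Iso.refl _) (by
        show 𝟙 _ ≫ Spec.map (CommRingCat.ofHom (algebraMap k k)) = 𝟙 _
        rw [Category.id_comp, show CommRingCat.ofHom (algebraMap k k) = 𝟙 (CommRingCat.of k) from rfl, Spec.map_id])
    haveI := hT
    obtain ⟨t, ht⟩ := hg T (i ≫ cj (u.hom ≫ x)) (isMaximalTorus_comp_aut hT _)
    refine ⟨snd (AlgGrpLib.PointsDense.spK k k) X ≫ t, ?_⟩
    have ht' : g ≫ cj (u.hom ≫ x)⁻¹ = t ≫ i := by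
      rw [← ht]
      simp only [Category.assoc]
      rw [AGFQuot23.cj_comp, mul_inv_cancel, AGFQuot23.cj_one, Category.comp_id]
    rw [Category.assoc, ← ht', ← Category.assoc (snd _ _), comp_cj]
    simp only [cst, MonObj.comp_mul, GrpObj.comp_inv, _root_.inv_inv, whiskerRight_fst, whiskerRight_snd_assoc]
    have hx : toUnit (AlgGrpLib.PointsDense.spK k k ⊗ X) ≫ u.hom ≫ x = fst _ _ ≫ x := by
      rw [toUnit_unique (toUnit _) (fst _ X ≫ u.inv), Category.assoc, Iso.inv_hom_id_assoc]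
    rw [hx]
  obtain ⟨zN, hzN⟩ := (key X g).2 fun S'' s x => ⟨lift x s ≫ l, by
    rw [Category.assoc, hl]
    simp only [MonObj.comp_mul, GrpObj.comp_inv, lift_fst, lift_snd_assoc]⟩
  refine ⟨zN ≫ w ≫ cZ.hom, ?_⟩
  have hnat : (Over.pullback (𝟙 (Spec (CommRingCat.of k)))).map z ≫ cG.hom = cZ.hom ≫ z := by
    rw [hcGe, hcZe]; exact (Over.pullbackId).hom.naturality z
  rw [Category.assoc, Category.assoc, ← hnat, reassoc_of% hw, Iso.inv_hom_id, Category.comp_id, hzN]

end Groth.Agent.ConjConst26.RedCentre
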