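import Groth.Agent.IsoTriv.FixedScheme
import Groth.Agent.ConjConst26.NormCartan
import Groth.Agent.AlgGrpLib.MultTypeAction
import Groth.Agent.S8407

/-! Invariants of a torus acting by group automorphisms. -/

set_option linter.style.haveILetI false
set_option autoImplicit false
set_option backward.isDefEq.respectTransparency.types false
set_option maxHeartbeats 1000000
set_option synthInstance.maxHeartbeats 400000

universe u

open CategoryTheory CategoryTheory.Limits MonoidalCategory CartesianMonoidalCategory MonObj GrpObj AlgebraicGeometry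
open Groth.Agent.IsoTriv Groth.Agent.SGA3cLib CoactBr Groth.Agent.HopfLib.SpPoints
open scoped TensorProduct

noncomputable section

namespace Groth.Agent.ConjConst26.TorusInvariants

/-- A product has connected factors. -/
theorem connectedSpace_fst {S : Scheme.{u}} {K : Type u} [Field K] (ω : Spec (CommRingCat.of K) ⟶ S) (F Q : Over S)
    [GrpObj Q] [ConnectedSpace (Red.bc ω (F ⊗ Q)).left] : ConnectedSpace (Red.bc ω F).left := by
  let p : Red.bc ω (F ⊗ Q) ⟶ Red.bc ω F := (Over.pullback ω).map (fst F Q)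
  let σ : Red.bc ω F ⟶ Red.bc ω (F ⊗ Q) := (Over.pullback ω).map (lift (𝟙 F) 1)
  have hσ : σ.left ≫ p.left = 𝟙 _ := by
    rw [← Over.comp_left, ← Functor.map_comp, lift_fst, CategoryTheory.Functor.map_id]; rfl
  exact Function.Surjective.connectedSpace (f := p.left.base)
    (fun y => ⟨σ.left.base y, by rw [← Scheme.Hom.comp_apply, hσ]; rfl⟩) p.left.continuous

/-- A connected geometric fibre has a connected fibre below it. -/
theorem isConnected_fibre {S : Scheme.{u}} (F : Over S) (s : S) [ConnectedSpace (Red.geomFibre s F).left] :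
    _root_.IsConnected (F.hom.base ⁻¹' {s}) := by
  have hr : Set.range (Red.geomPt s).base = {s} := by
    refine Set.Subset.antisymm ?_ ?_
    · rintro _ ⟨x, rfl⟩
      exact (Scheme.range_fromSpecResidueField s).subset ⟨_, rfl⟩
    · intro y hy
      rw [Set.mem_singleton_iff] at hy
      subst hy
      refine ⟨IsLocalRing.closedPoint (AlgebraicClosure (S.residueField y)), ?_⟩
      exact Set.mem_singleton_iff.1 ((Scheme.range_fromSpecResidueField y).subset ⟨_, rfl⟩)
  have h := isConnected_range (pullback.fst F.hom (Red.geomPt s)).continuous (α := (Red.geomFibre s F).left)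
  rw [Scheme.Pullback.range_fst, hr] at h
  exact h

/-- The product of two fibres is smooth and connected. -/
theorem fibre_product {S : Scheme.{u}} {K : Type u} [Field K] [IsAlgClosed K] (ω : Spec (CommRingCat.of K) ⟶ S)
    (H Q : Over S) [Smooth (Red.bc ω H).hom] [Smooth (Red.bc ω Q).hom] [ConnectedSpace (Red.bc ω H).left]
    [ConnectedSpace (Red.bc ω Q).left] :
    Smooth (Red.bc ω (H ⊗ Q)).hom ∧ ConnectedSpace (Red.bc ω (H ⊗ Q)).left := by
  haveI : GeometricallyConnected (Red.bc ω Q).hom := CentralDescent.geometricallyConnected_of_isAlgClosed _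
  haveI : ConnectedSpace (Red.bc ω H ⊗ Red.bc ω Q).left :=
    inferInstanceAs (ConnectedSpace ↥(pullback (Red.bc ω H).hom (Red.bc ω Q).hom))
  haveI : Smooth (Red.bc ω H ⊗ Red.bc ω Q).hom :=
    inferInstanceAs (Smooth (pullback.fst (Red.bc ω H).hom (Red.bc ω Q).hom ≫ (Red.bc ω H).hom))
  let e : Red.bc ω (H ⊗ Q) ≅ Red.bc ω H ⊗ Red.bc ω Q := CartesianMonoidalCategory.prodComparisonIso (Over.pullback ω) H Q
  haveI : IsIso e.hom.left := inferInstanceAs (IsIso ((Over.forget _).mapIso e).hom)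
  haveI : IsIso e.inv.left := inferInstanceAs (IsIso ((Over.forget _).mapIso e).inv)
  exact ⟨by rw [← Over.w e.hom]; infer_instance,
    e.inv.left.homeomorph.surjective.connectedSpace e.inv.left.continuous⟩

/-- The centraliser of a torus has connected geometric fibres. -/
theorem connectedSpace_centralizer {S : Scheme.{u}} {K : Type u} [Field K] [IsAlgClosed K]
    (ω : Spec (CommRingCat.of K) ⟶ S) (P Q C : Over S) [GrpObj P] [GrpObj Q] [GrpObj C] (hQ : Red.IsTorus Q)
    (j : Q ⟶ P) [IsMonHom j] [Mono j] (c : C ⟶ P) (hC : Red.IsCentralizerOf j c)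
    [Smooth (Red.bc ω P).hom] [QuasiCompact P.hom] [ConnectedSpace (Red.bc ω P).left] :
    ConnectedSpace (Red.bc ω C).left := by
  haveI : QuasiCompact (Red.bc ω P).hom := MorphismProperty.pullback_snd (P := @QuasiCompact) _ _ inferInstance
  haveI : (Over.pullback ω).IsRightAdjoint := (Over.mapPullbackAdj _).isRightAdjoint
  haveI : Mono ((Over.pullback ω).map j) := inferInstance
  exact (@Groth.Agent.S8407.result K _ _ (Red.bc ω P) _ _ _ _ (Red.bc ω Q) _ ((Over.pullback ω).map j)
    (inferInstanceAs (IsMonHom ((Over.pullback ω).map j))) inferInstance (TorusAb27.isTorus_bc ω Q hQ)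
    (Red.bc ω C) _ ((Over.pullback ω).map c) (MaxTorus26.isCentralizerOf_bc ω hC)).2

open AlgGrpLib.MultTypeAct in
/-- The invariants of a torus acting by automorphisms: closed, smooth, with connected fibres. -/
theorem exists_invariants {S : Scheme.{u}} {Q H : Over S} [GrpObj Q] [GrpObj H] (hQ : Red.IsTorus Q)
    [IsSeparated H.hom] [Smooth H.hom] (a : AlgGrp.Action Q H) (hmul : IsGrpAction a) :
    ∃ (F : Over S) (f : F ⟶ H), IsClosedImmersion f.left ∧ Smooth F.hom ∧
      (∀ (X : Over S) (h : X ⟶ H), (∃ x : X ⟶ F, x ≫ f = h) ↔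
        ∀ (X' : Over S) (g : X' ⟶ X) (q : X' ⟶ Q), lift q (g ≫ h) ≫ a.act = g ≫ h) ∧
      (IsAffineHom H.hom → (∀ s : S, _root_.IsConnected (H.hom.base ⁻¹' {s})) →
        IsAffineHom F.hom ∧ ∀ s : S, _root_.IsConnected (F.hom.base ⁻¹' {s})) := by
  have hQm := MultExt26.isMultTypeFT_of_torus Q hQ
  obtain ⟨F₀, f₀, hf₀, hfp, hF₀⟩ := FixedScheme.exists_fixed (CentralFib.locally_of_multTypeFT hQm) a
  haveI := hf₀
  haveI := hfp inferInstance
  have hsm₀ := FixedScheme.smooth_fixed hQm a f₀ hF₀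
  let F : Over S := Over.mk (f₀ ≫ H.hom)
  let f : F ⟶ H := Over.homMk f₀ rfl
  have hf : IsClosedImmersion f.left := hf₀
  haveI := hf
  haveI : Mono f := Over.mono_of_mono_left f
  have key : ∀ (X : Over S) (h : X ⟶ H), (∃ x : X ⟶ F, x ≫ f = h) ↔
      ∀ (X' : Over S) (g : X' ⟶ X) (q : X' ⟶ Q), lift q (g ≫ h) ≫ a.act = g ≫ h := fun X h => by
    rw [← hF₀]
    constructor
    · rintro ⟨x, rfl⟩; exact ⟨x.left, rfl⟩
    · rintro ⟨y, hy⟩
      exact ⟨Over.homMk y (by
        show y ≫ f₀ ≫ H.hom = X.hom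
        rw [← Category.assoc, hy, Over.w]), Over.OverMorphism.ext hy⟩
  have hsm : Smooth F.hom := hsm₀
  refine ⟨F, f, hf, hsm, key, fun hHa hHc => ⟨by rw [← Over.w f]; infer_instance, fun s => ?_⟩⟩
  haveI := hHa
  haveI := hsm
  haveI := SchemeBridge.isAffineHom_of_multTypeFT Q hQm
  -- the semidirect product
  let P : Over S := sdObj H Q
  letI gP : GrpObj P := sdGrp hmul
  let j : Q ⟶ P := pair 1 (𝟙 Q)
  let c : F ⊗ Q ⟶ P := pair (fst F Q ≫ f) (snd F Q)
  have hj1 : ∀ {X : Over S} (q : X ⟶ Q), q ≫ j = pair 1 q := fun q => by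
    rw [comp_pair, MonObj.comp_one, Category.comp_id]
  haveI : IsMonHom j := AlgGrpLib.MultTypeAct.isMonHom_of_map_mul j fun {T} x y => by
    rw [hj1, hj1, hj1, sd_mul hmul]
    simp only [pair_π₁, pair_π₂]
    rw [show lift x (1 : T ⟶ H) ≫ a.act = 1 from map_one (autHom hmul T x), _root_.mul_one]
  haveI : Mono j := ⟨fun x y h => by
    rw [hj1, hj1] at h
    simpa using congrArg (· ≫ π₂ H Q) h⟩
  haveI : Mono c := ⟨fun x y h => by
    simp only [c, comp_pair] at h
    refine CartesianMonoidalCategory.hom_ext _ _ ?_ (by simpa using congrArg (· ≫ π₂ H Q) h)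
    rw [← cancel_mono f]
    simpa using congrArg (· ≫ π₁ H Q) h⟩
  have hcond : ∀ (X : Over S) (p : X ⟶ P), (∃ z : X ⟶ F ⊗ Q, z ≫ c = p) ↔
      ∀ (X' : Over S) (x : X' ⟶ X) (q : X' ⟶ Q), (x ≫ p) * (q ≫ j) = (q ≫ j) * (x ≫ p) := by
    intro X p
    have heq : ∀ (X' : Over S) (x : X' ⟶ X) (q : X' ⟶ Q),
        ((x ≫ p) * (q ≫ j) = (q ≫ j) * (x ≫ p)) ↔ lift q (x ≫ p ≫ π₁ H Q) ≫ a.act = x ≫ p ≫ π₁ H Q := by
      intro X' x q
      rw [hj1, sd_mul hmul, sd_mul hmul]
      simp only [pair_π₁, pair_π₂, _root_.one_mul, Category.assoc]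
      rw [show lift (x ≫ p ≫ π₂ H Q) (1 : X' ⟶ H) ≫ a.act = 1 from map_one (autHom hmul X' _), _root_.mul_one,
        torus_mul_comm hQ]
      exact ⟨fun h => by simpa using (congrArg (· ≫ π₁ H Q) h).symm, fun h => by rw [h]⟩
    constructor
    · rintro ⟨z, rfl⟩ X' x q
      rw [heq]
      have h := (key X (z ≫ fst F Q ≫ f)).1 ⟨z ≫ fst F Q, Category.assoc _ _ _⟩ X' x q
      simpa [c, Category.assoc] using h
    · intro h
      obtain ⟨y, hy⟩ := (key X (p ≫ π₁ H Q)).2 fun X' x q => (heq X' x q).1 (h X' x q)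
      exact ⟨lift y (p ≫ π₂ H Q), pair_ext (by simp [c, hy]) (by simp [c])⟩
  obtain ⟨gC, hcm⟩ := exists_grpObj_of_subgroup c
    (fun X => (hcond X 1).2 fun X' x q => by simp [MonObj.comp_one])
    (fun X u v => (hcond X _).2 fun X' x d => by
      have hu := (hcond X _).1 ⟨u, rfl⟩ X' x d
      have hv := (hcond X _).1 ⟨v, rfl⟩ X' x d
      rw [MonObj.comp_mul, _root_.mul_assoc, hv, ← _root_.mul_assoc, hu, _root_.mul_assoc])
    (fun X u => (hcond X _).2 fun X' x d => by
      have hu : Commute (x ≫ u ≫ c) (d ≫ j) := (hcond X _).1 ⟨u, rfl⟩ X' x d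
      rw [GrpObj.comp_inv]
      exact hu.inv_left.eq)
  letI := gC
  haveI := hcm
  have hC : Red.IsCentralizerOf j c := ⟨inferInstance, inferInstance, hcond⟩
  -- on a geometric fibre
  let K := AlgebraicClosure (S.residueField s)
  let ω : Spec (CommRingCat.of K) ⟶ S := Red.geomPt s
  haveI : ConnectedSpace (Red.bc ω H).left := NormalMultCentral.connectedSpace_bc H (fun s' => by
    haveI : ConnectedSpace ↥(H.hom.base ⁻¹' {s'}) := isConnected_iff_connectedSpace.1 (hHc s')
    exact (H.hom.fiberHomeo s').symm.surjective.connectedSpace (H.hom.fiberHomeo s').symm.continuous) ω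
  haveI : ConnectedSpace (Red.bc ω Q).left := TorusConnLib.connectedSpace _ (TorusAb27.isTorus_bc ω Q hQ)
  haveI : Smooth (Red.bc ω Q).hom := AlgGrpLib.AxesTorus.smooth_of_isTorus (TorusAb27.isTorus_bc ω Q hQ)
  haveI : Smooth (Red.bc ω H).hom := MorphismProperty.pullback_snd (P := @Smooth) _ _ inferInstance
  haveI : Smooth (Red.bc ω P).hom := (fibre_product ω H Q).1
  haveI : ConnectedSpace (Red.bc ω P).left := (fibre_product ω H Q).2
  haveI : QuasiCompact P.hom := by
    haveI : IsAffineHom (pullback.fst H.hom Q.hom) := MorphismProperty.pullback_fst (P := @IsAffineHom) _ _ inferInstance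
    exact inferInstanceAs (QuasiCompact (pullback.fst H.hom Q.hom ≫ H.hom))
  haveI : ConnectedSpace (Red.bc ω (F ⊗ Q)).left := connectedSpace_centralizer ω P Q (F ⊗ Q) hQ j c hC
  haveI : ConnectedSpace (Red.geomFibre s F).left := connectedSpace_fst ω F Q
  exact isConnected_fibre F s

end Groth.Agent.ConjConst26.TorusInvariants
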