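import Groth.Agent.SGA3cLib.MTTransporter
import Groth.Agent.SGA3cLib.CentralFib
import Groth.Agent.FlatMorSmoothSect.Scheme

/-! Transporters between two families of homomorphisms `H → G` parametrized by a scheme `B` over the base,
and the openness and closedness of the conjugacy class of a constant family. -/

set_option linter.style.haveILetI false
set_option autoImplicit false
set_option backward.isDefEq.respectTransparency.types false

universe u

open CategoryTheory CategoryTheory.Limits MonoidalCategory CartesianMonoidalCategory MonObj GrpObj AlgebraicGeometry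

noncomputable section

namespace Groth.Agent.ConjConst26

open SGA3cLib

variable {Q : Scheme.{u}} {B B' H G : Over Q}

/-- The structure map of an object over `B`, as a morphism over `Q`. -/
def str (B : Over Q) (X : Over B.left) : (Over.map B.hom).obj X ⟶ B := Over.homMk X.hom rfl

theorem map_str {X X' : Over B.left} (x : X' ⟶ X) : (Over.map B.hom).map x ≫ str B X = str B X' :=
  Over.OverMorphism.ext (Over.w x)

theorem exists_map {X X' : Over B.left} (w : (Over.map B.hom).obj X' ⟶ (Over.map B.hom).obj X)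
    (hw : w ≫ str B X = str B X') : ∃ x : X' ⟶ X, (Over.map B.hom).map x = w :=
  ⟨Over.homMk w.left (congrArg (fun q : _ ⟶ B => q.left) hw), Over.OverMorphism.ext rfl⟩

theorem elim_pt {P : ∀ Z : Over Q, (Z ⟶ B) → Prop} (h : ∀ X, P ((Over.map B.hom).obj X) (str B X))
    (Z : Over Q) (p : Z ⟶ B) : P Z p := by
  have key : ∀ (Zl : Scheme.{u}) (c : Zl ⟶ Q) (q : Zl ⟶ B.left) (w : q ≫ B.hom = c),
      P (Over.mk c) (Over.homMk q w) := by
    intro Zl c q w
    subst w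
    exact h (Over.mk q)
  exact key Z.left Z.hom p.left (Over.w p)

/-- A family of homomorphisms. -/
def IsFam [GrpObj H] [GrpObj G] (Ψ : B ⊗ H ⟶ G) : Prop :=
  ∀ (Z : Over Q) (p : Z ⟶ B) (h h' : Z ⟶ H), lift p (h * h') ≫ Ψ = (lift p h ≫ Ψ) * (lift p h' ≫ Ψ)

/-- A point of `G` over a point of `B` carries the first family to the second. -/
def Conj [GrpObj G] (Ψ₁ Ψ₂ : B ⊗ H ⟶ G) {Z : Over Q} (p : Z ⟶ B) (g : Z ⟶ G) : Prop :=
  ∀ (Z' : Over Q) (w : Z' ⟶ Z) (h : Z' ⟶ H),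
    (w ≫ g) * (lift (w ≫ p) h ≫ Ψ₁) * (w ≫ g)⁻¹ = lift (w ≫ p) h ≫ Ψ₂

/-- Pullback of a family. -/
def pre (q : B' ⟶ B) (Ψ : B ⊗ H ⟶ G) : B' ⊗ H ⟶ G := lift (fst B' H ≫ q) (snd B' H) ≫ Ψ

theorem lift_pre (q : B' ⟶ B) (Ψ : B ⊗ H ⟶ G) {Z : Over Q} (p : Z ⟶ B') (h : Z ⟶ H) :
    lift p h ≫ pre q Ψ = lift (p ≫ q) h ≫ Ψ := by
  rw [pre, ← Category.assoc, comp_lift, ← Category.assoc, lift_fst, lift_snd]

variable [GrpObj H] [GrpObj G]

theorem isFam_pre (q : B' ⟶ B) {Ψ : B ⊗ H ⟶ G} (hΨ : IsFam Ψ) : IsFam (pre q Ψ) := fun Z p h h' => by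
  simp only [lift_pre, hΨ Z (p ≫ q) h h']

/-- The constant family. -/
def const (B : Over Q) (u : H ⟶ G) : B ⊗ H ⟶ G := snd B H ≫ u

theorem lift_const (u : H ⟶ G) {Z : Over Q} (p : Z ⟶ B) (h : Z ⟶ H) : lift p h ≫ const B u = h ≫ u := by
  rw [const, lift_snd_assoc]

theorem isFam_const (u : H ⟶ G) [IsMonHom u] : IsFam (const B u) := fun Z p h h' => by
  simp only [lift_const, MonObj.mul_comp]

/-- A family as a morphism over `B`. -/
def famHom (Ψ : B ⊗ H ⟶ G) : Red.bc B.hom H ⟶ Red.bc B.hom G :=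
  BCPoints.pt B.hom G _ (lift (str B _) ((BCPoints.pt B.hom H _).symm (𝟙 _)) ≫ Ψ)

omit [GrpObj H] [GrpObj G] in
theorem pt_famHom (Ψ : B ⊗ H ⟶ G) {X : Over B.left} (h : (Over.map B.hom).obj X ⟶ H) :
    BCPoints.pt B.hom H X h ≫ famHom Ψ = BCPoints.pt B.hom G X (lift (str B X) h ≫ Ψ) := by
  rw [famHom, ← BCPoints.pt_map_comp, ← Category.assoc, comp_lift, map_str]
  congr 3
  apply (BCPoints.pt B.hom H X).injective
  rw [BCPoints.pt_map_comp, Equiv.apply_symm_apply, Category.comp_id]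

theorem isMonHom_famHom {Ψ : B ⊗ H ⟶ G} (hΨ : IsFam Ψ) : IsMonHom (famHom Ψ) := by
  refine BCPoints.isMonHom_of_mul _ fun X x y => ?_
  obtain ⟨x, rfl⟩ := (BCPoints.pt B.hom H X).surjective x
  obtain ⟨y, rfl⟩ := (BCPoints.pt B.hom H X).surjective y
  rw [← BCPoints.pt_mul, pt_famHom, pt_famHom, pt_famHom, ← BCPoints.pt_mul, hΨ]

/-- Two families of homomorphisms from a group of multiplicative type have a smooth transporter. -/
theorem exists_transporter' (hH : MTTransporter.IsMTS H) [IsSeparated G.hom] [Smooth G.hom]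
    (Ψ₁ Ψ₂ : B ⊗ H ⟶ G) (h₁ : IsFam Ψ₁) (h₂ : IsFam Ψ₂) :
    ∃ (T : Over Q) (π : T ⟶ B) (g : T ⟶ G), Smooth π.left ∧ Conj Ψ₁ Ψ₂ π g ∧
      (∀ (Z : Over Q) (p : Z ⟶ B) (g' : Z ⟶ G), Conj Ψ₁ Ψ₂ p g' → ∃ t : Z ⟶ T, t ≫ π = p ∧ t ≫ g = g') ∧
      ∀ (Z : Over Q) (t t' : Z ⟶ T), t ≫ π = t' ≫ π → t ≫ g = t' ≫ g → t = t' := by
  haveI := isMonHom_famHom h₁
  haveI := isMonHom_famHom h₂
  haveI : IsSeparated (Red.bc B.hom G).hom :=
    MorphismProperty.pullback_snd (P := @IsSeparated) _ _ inferInstance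
  haveI : Smooth (Red.bc B.hom G).hom := MorphismProperty.pullback_snd (P := @Smooth) _ _ inferInstance
  obtain ⟨T, j, hj, hsm, hT⟩ :=
    MTTransporter.exists_smooth (famHom Ψ₁) (famHom Ψ₂) (BCPoints.locally_bc B.hom H hH)
  refine ⟨(Over.map B.hom).obj T, str B T, (BCPoints.pt B.hom G T).symm j, hsm, ?_, ?_, ?_⟩
  · have hc := (hT T j).1 ⟨𝟙 T, Category.id_comp _⟩
    intro Z w h
    have key : ∀ (Z : Over Q) (p : Z ⟶ B), ∀ (w : Z ⟶ (Over.map B.hom).obj T), w ≫ str B T = p →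
        ∀ h : Z ⟶ H, (w ≫ (BCPoints.pt B.hom G T).symm j) * (lift p h ≫ Ψ₁) *
          (w ≫ (BCPoints.pt B.hom G T).symm j)⁻¹ = lift p h ≫ Ψ₂ := by
      intro Z p
      refine elim_pt (P := fun Z p => ∀ (w : Z ⟶ (Over.map B.hom).obj T), w ≫ str B T = p →
        ∀ h : Z ⟶ H, (w ≫ (BCPoints.pt B.hom G T).symm j) * (lift p h ≫ Ψ₁) *
          (w ≫ (BCPoints.pt B.hom G T).symm j)⁻¹ = lift p h ≫ Ψ₂) (fun X w hw h => ?_) Z p
      obtain ⟨x, rfl⟩ := exists_map w hw
      apply (BCPoints.pt B.hom G X).injective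
      simp only [BCPoints.pt_mul, BCPoints.pt_inv, BCPoints.pt_map_comp, Equiv.apply_symm_apply, ← pt_famHom]
      exact hc X x _
    exact key Z (w ≫ str B T) w rfl h
  · intro Z p
    refine elim_pt (P := fun Z p => ∀ g' : Z ⟶ G, Conj Ψ₁ Ψ₂ p g' →
      ∃ t : Z ⟶ (Over.map B.hom).obj T, t ≫ str B T = p ∧ t ≫ (BCPoints.pt B.hom G T).symm j = g')
      (fun X g' hg => ?_) Z p
    obtain ⟨t, ht⟩ := (hT X (BCPoints.pt B.hom G X g')).2 (fun X' x h => by
      obtain ⟨h₁, rfl⟩ := (BCPoints.pt B.hom H X').surjective h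
      have := hg _ ((Over.map B.hom).map x) h₁
      rw [map_str] at this
      rw [pt_famHom, pt_famHom, ← BCPoints.pt_map_comp, ← BCPoints.pt_inv, ← BCPoints.pt_mul, ← BCPoints.pt_mul, this])
    refine ⟨(Over.map B.hom).map t, map_str t, ?_⟩
    apply (BCPoints.pt B.hom G X).injective
    rw [BCPoints.pt_map_comp, Equiv.apply_symm_apply, ht]
  · haveI : Mono j.left := inferInstance
    haveI : Mono j := Over.mono_of_mono_left j
    intro Z t t' h h'
    have key : ∀ (Z : Over Q) (p : Z ⟶ B) (t t' : Z ⟶ (Over.map B.hom).obj T), t ≫ str B T = p →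
        t' ≫ str B T = p → t ≫ (BCPoints.pt B.hom G T).symm j = t' ≫ (BCPoints.pt B.hom G T).symm j → t = t' := by
      intro Z p
      refine elim_pt (P := fun Z p => ∀ (t t' : Z ⟶ (Over.map B.hom).obj T), t ≫ str B T = p →
        t' ≫ str B T = p → t ≫ (BCPoints.pt B.hom G T).symm j = t' ≫ (BCPoints.pt B.hom G T).symm j → t = t')
        (fun X t t' ht ht' he => ?_) Z p
      obtain ⟨x, rfl⟩ := exists_map t ht
      obtain ⟨x', rfl⟩ := exists_map t' ht'
      have e := congrArg (BCPoints.pt B.hom G X) he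
      rw [BCPoints.pt_map_comp, BCPoints.pt_map_comp, Equiv.apply_symm_apply] at e
      rw [(cancel_mono j).1 e]
    exact key Z (t ≫ str B T) t t' rfl h.symm h'

/-- Two families of homomorphisms from a group of multiplicative type have a smooth transporter. -/
theorem exists_transporter (hH : MTTransporter.IsMTS H) [IsSeparated G.hom] [Smooth G.hom]
    (Ψ₁ Ψ₂ : B ⊗ H ⟶ G) (h₁ : IsFam Ψ₁) (h₂ : IsFam Ψ₂) :
    ∃ (T : Over Q) (π : T ⟶ B) (g : T ⟶ G), Smooth π.left ∧ Conj Ψ₁ Ψ₂ π g ∧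
      ∀ (Z : Over Q) (p : Z ⟶ B) (g' : Z ⟶ G), Conj Ψ₁ Ψ₂ p g' → ∃ t : Z ⟶ T, t ≫ π = p := by
  obtain ⟨T, π, g, hsm, hc, hT, -⟩ := exists_transporter' hH Ψ₁ Ψ₂ h₁ h₂
  exact ⟨T, π, g, hsm, hc, fun Z p g' h => (hT Z p g' h).imp fun t ht => ht.1⟩

/-- The points over which a family is conjugate to a constant family form a clopen set. -/
theorem isClopen_range (hH : MTTransporter.IsMTS H) [IsSeparated G.hom] [Smooth G.hom] [Subsingleton Q] [IsIntegral Q]
    (Ψ : B ⊗ H ⟶ G) (hΨ : IsFam Ψ) (u : H ⟶ G) [IsMonHom u] {T : Over Q} (π : T ⟶ B) (g : T ⟶ G)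
    [Smooth π.left] (hπ : Conj (const B u) Ψ π g)
    (hT : ∀ (Z : Over Q) (p : Z ⟶ B) (g' : Z ⟶ G), Conj (const B u) Ψ p g' → ∃ t : Z ⟶ T, t ≫ π = p) :
    IsClopen (Set.range π.left.base) := by
  refine ⟨⟨isOpen_iff_forall_mem_open.2 fun s hs => ?_⟩, π.left.isOpenMap.isOpen_range⟩
  let σ := B.left.fromSpecResidueField s
  let K : Over Q := Over.mk (σ ≫ B.hom)
  let pσ : K ⟶ B := Over.homMk σ rfl
  obtain ⟨T', π', g', hsm, hπ', hT'⟩ := exists_transporter hH (pre (fst B K) Ψ) (pre (snd B K ≫ pσ) Ψ)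
    (isFam_pre _ hΨ) (isFam_pre _ hΨ)
  haveI := hsm
  haveI : UniversallyOpen K.hom := inferInstance
  haveI : UniversallyOpen (fst B K).left := UniversallyOpen.fst B.hom K.hom
  haveI : UniversallyOpen (π' ≫ fst B K).left := by rw [Over.comp_left]; infer_instance
  refine ⟨Set.range (π' ≫ fst B K).left.base, ?_, ?_, ?_⟩
  · rintro _ ⟨t', rfl⟩ ⟨t, ht⟩
    obtain ⟨z, -, -⟩ := Scheme.Pullback.exists_preimage_pullback (f := (π' ≫ fst B K).left) (g := π.left) t' t ht.symm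
    let Z : Over Q := Over.mk (pullback.fst (π' ≫ fst B K).left π.left ≫ T'.hom)
    let q' : Z ⟶ T' := Over.homMk (pullback.fst _ _) rfl
    let q : Z ⟶ T := Over.homMk (pullback.snd _ _) (by
      show pullback.snd _ _ ≫ T.hom = pullback.fst _ _ ≫ T'.hom
      rw [← Over.w (π' ≫ fst B K), ← Over.w π, pullback.condition_assoc])
    have hq : q' ≫ π' ≫ fst B K = q ≫ π := Over.OverMorphism.ext pullback.condition
    let pb : Z ⟶ B := q' ≫ π' ≫ snd B K ≫ pσ
    obtain ⟨t₁, ht₁⟩ := hT Z pb ((q' ≫ g') * (q ≫ g)) (fun Z' w h => by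
      have e₁ := hπ Z' (w ≫ q) h
      have e₂ := hπ' Z' (w ≫ q') h
      simp only [lift_const, lift_pre, Category.assoc] at e₁ e₂
      rw [hq, ← e₁] at e₂
      rw [lift_const, MonObj.comp_mul, ← e₂, _root_.mul_inv_rev]
      simp only [_root_.mul_assoc])
    apply hs
    refine ⟨t₁.left.base z, ?_⟩
    have e := congrArg (fun r : Z ⟶ B => r.left.base z) ht₁
    exact e.trans (Scheme.fromSpecResidueField_apply s ((q' ≫ π' ≫ snd B K).left.base z))
  · exact (π' ≫ fst B K).left.isOpenMap.isOpen_range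
  · let x : K.left := show Spec (B.left.residueField s) from (IsLocalRing.closedPoint _)
    obtain ⟨t, ht⟩ := hT' K (lift pσ (𝟙 K)) 1 (fun Z' w h => by
      simp only [lift_pre, MonObj.comp_one, _root_.one_mul, inv_one, _root_.mul_one, Category.assoc, lift_fst,
        lift_snd_assoc, Category.id_comp])
    refine ⟨t.left.base x, ?_⟩
    have e : t ≫ π' ≫ fst B K = pσ := by rw [reassoc_of% ht, lift_fst]
    exact (congrArg (fun r : K ⟶ B => r.left.base x) e).trans (Scheme.fromSpecResidueField_apply s x)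

/-- The family of a morphism over `B`. -/
def homFam (φ : Red.bc B.hom H ⟶ Red.bc B.hom G) : B ⊗ H ⟶ G :=
  let X₀ : Over B.left := Over.mk (fst B H).left
  (Over.homMk (𝟙 _) (by
      show 𝟙 _ ≫ ((fst B H).left ≫ B.hom) = (B ⊗ H).hom
      rw [Category.id_comp, Over.w]) : B ⊗ H ⟶ (Over.map B.hom).obj X₀) ≫
    (BCPoints.pt B.hom G X₀).symm (BCPoints.pt B.hom H X₀
      ((Over.homMk (𝟙 _) (by
        show 𝟙 _ ≫ (B ⊗ H).hom = (fst B H).left ≫ B.hom
        rw [Category.id_comp, Over.w]) : (Over.map B.hom).obj X₀ ⟶ B ⊗ H) ≫ snd B H) ≫ φ)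

omit [GrpObj H] [GrpObj G] in
theorem lift_homFam (φ : Red.bc B.hom H ⟶ Red.bc B.hom G) {X : Over B.left} (h : (Over.map B.hom).obj X ⟶ H) :
    BCPoints.pt B.hom G X (lift (str B X) h ≫ homFam φ) = BCPoints.pt B.hom H X h ≫ φ := by
  let X₀ : Over B.left := Over.mk (fst B H).left
  let e : X ⟶ X₀ := Over.homMk (lift (str B X) h).left
    (congrArg (fun r : _ ⟶ B => r.left) (lift_fst (str B X) h))
  have he : ∀ (k₁ : B ⊗ H ⟶ (Over.map B.hom).obj X₀), k₁.left = 𝟙 _ → lift (str B X) h ≫ k₁ = (Over.map B.hom).map e :=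
    fun k₁ hι => Over.OverMorphism.ext ((congrArg _ hι).trans (Category.comp_id _))
  rw [homFam, ← Category.assoc, he _ rfl, BCPoints.pt_map_comp, Equiv.apply_symm_apply, ← Category.assoc,
    ← BCPoints.pt_map_comp]
  congr 2
  rw [← Category.assoc]
  refine Eq.trans (congrArg (· ≫ snd B H) (?_ : _ = lift (str B X) h)) (lift_snd _ _)
  exact Over.OverMorphism.ext (Category.comp_id _)

theorem isFam_homFam (φ : Red.bc B.hom H ⟶ Red.bc B.hom G) [IsMonHom φ] : IsFam (homFam φ) := by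
  intro Z p
  refine elim_pt (P := fun Z p => ∀ h h' : Z ⟶ H,
    lift p (h * h') ≫ homFam φ = (lift p h ≫ homFam φ) * (lift p h' ≫ homFam φ)) (fun X h h' => ?_) Z p
  apply (BCPoints.pt B.hom G X).injective
  rw [BCPoints.pt_mul, lift_homFam, lift_homFam, lift_homFam, BCPoints.pt_mul, MonObj.mul_comp]

/-- A morphism over a connected `B` conjugate to a constant one at a point is étale-locally conjugate to it. -/
theorem exists_etale_conj (hH : MTTransporter.IsMTS H) [IsSeparated G.hom] [Smooth G.hom] [Subsingleton Q]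
    [IsIntegral Q] [ConnectedSpace B.left] (u : H ⟶ G) [IsMonHom u]
    (φ : Red.bc B.hom H ⟶ Red.bc B.hom G) [IsMonHom φ] (X₀ : Over B.left) [Nonempty X₀.left]
    (g₀ : X₀ ⟶ Red.bc B.hom G)
    (h₀ : fst (Red.bc B.hom H) X₀ ≫ φ =
      (snd _ _ ≫ g₀) * (fst _ _ ≫ (Over.pullback B.hom).map u) * (snd _ _ ≫ g₀)⁻¹) :
    ∃ (S' : Over B.left), Etale S'.hom ∧ Surjective S'.hom ∧ ∃ g : S' ⟶ Red.bc B.hom G,
      fst (Red.bc B.hom H) S' ≫ φ =
        (snd _ _ ≫ g) * (fst _ _ ≫ (Over.pullback B.hom).map u) * (snd _ _ ≫ g)⁻¹ := by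
  obtain ⟨T, π, gT, hsm, hπ, hT⟩ := exists_transporter hH (const B u) (homFam φ)
    (isFam_const u) (isFam_homFam φ)
  haveI := hsm
  have hV := isClopen_range hH (homFam φ) (isFam_homFam φ) u π gT hπ hT
  obtain ⟨t₀, ht₀⟩ := hT ((Over.map B.hom).obj X₀) (str B X₀)
    ((BCPoints.pt B.hom G X₀).symm g₀) (fun Z' w h => by
      refine elim_pt (P := fun Z' p => ∀ (w : Z' ⟶ (Over.map B.hom).obj X₀),
        w ≫ str B X₀ = p → ∀ h : Z' ⟶ H,
        (w ≫ (BCPoints.pt B.hom G X₀).symm g₀) * (lift p h ≫ const B u) *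
          (w ≫ (BCPoints.pt B.hom G X₀).symm g₀)⁻¹ = lift p h ≫ homFam φ)
        (fun X w hw h => ?_) Z' _ w rfl h
      obtain ⟨x, rfl⟩ := exists_map w hw
      apply (BCPoints.pt B.hom G X).injective
      rw [lift_homFam, lift_const, BCPoints.pt_mul, BCPoints.pt_mul, BCPoints.pt_inv, BCPoints.pt_map_comp,
        BCPoints.pt_comp, Equiv.apply_symm_apply]
      have e := congrArg (lift (BCPoints.pt B.hom _ X h) x ≫ ·) h₀
      simp only [MonObj.comp_mul, GrpObj.comp_inv, lift_fst_assoc, lift_snd_assoc] at e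
      exact e.symm)
  have huniv : Set.range π.left.base = Set.univ := by
    refine hV.eq_univ ?_
    obtain ⟨x⟩ := ‹Nonempty X₀.left›
    exact ⟨_, t₀.left.base x, rfl⟩
  have hsec : ∀ x : B.left, ∃ (S' : Scheme.{u}) (e : S' ⟶ B.left) (s' : S'), Etale e ∧ e s' = x ∧
      ∃ h : S' ⟶ T.left, h ≫ π.left = e := by
    intro x
    obtain ⟨t, ht⟩ : x ∈ Set.range π.left.base := huniv ▸ Set.mem_univ x
    obtain ⟨S', e, s', he, hs', h, hh⟩ := FlatMorSmoothSect.exists_section_etale_locally π.left t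
    exact ⟨S', e, s', he, hs'.trans ht, h, hh⟩
  choose W e w he hw σ hσ using hsec
  refine ⟨Over.mk (Sigma.desc e), IsZariskiLocalAtSource.sigmaDesc (P := @Etale) he,
    ⟨fun x => ⟨(Sigma.ι W x).base (w x), ?_⟩⟩, ?_⟩
  · show (Sigma.ι W x ≫ Sigma.desc e).base (w x) = x
    rw [Sigma.ι_desc]
    exact hw x
  let S' : Over B.left := Over.mk (Sigma.desc e)
  have hπl : Sigma.desc σ ≫ π.left = Sigma.desc e := by
    apply Sigma.hom_ext
    intro x
    rw [Sigma.ι_desc_assoc, hσ, Sigma.ι_desc]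
  let t : (Over.map B.hom).obj S' ⟶ T := Over.homMk (Sigma.desc σ) (by
    show Sigma.desc σ ≫ T.hom = Sigma.desc e ≫ B.hom
    rw [← Over.w π, ← Category.assoc, hπl])
  have ht : t ≫ π = str B S' := Over.OverMorphism.ext hπl
  refine ⟨BCPoints.pt B.hom G S' (t ≫ gT), ?_⟩
  let X : Over B.left := Red.bc B.hom H ⊗ S'
  obtain ⟨h, hh⟩ := (BCPoints.pt B.hom H X).surjective (fst _ _)
  have hc := hπ _ ((Over.map B.hom).map (snd (Red.bc B.hom H) S') ≫ t) h
  rw [Category.assoc, Category.assoc, ht, lift_const, map_str] at hc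
  have key := congrArg (BCPoints.pt B.hom G X) hc
  rw [lift_homFam, BCPoints.pt_mul, BCPoints.pt_mul, BCPoints.pt_inv, BCPoints.pt_map_comp, BCPoints.pt_comp B.hom h u,
    hh] at key
  exact key.symm

end Groth.Agent.ConjConst26
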